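import Cfsg.Agent.H91.CentFocal.Extend

/-!
Extensions of automorphisms of order prime to `p` fix the focal subgroup of the centralizer system, and
the maps of a normal subsystem on `T` extend to fix the focal subgroup of `C_F(T)`.
-/

set_option autoImplicit false
set_option linter.style.haveILetI false

namespace Cfsg.Agent.H91.CentFocal

open Cfsg Cfsg.FusionSystem Cfsg.Agent.FusionSys
open Cfsg.FusionSystem (centralizerIn normalizerIn)

variable {Ω : Type*} [Group Ω] {S T : Subgroup Ω} {F : FusionSystem S} {E : FusionSystem T}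
  {p : ℕ} [Finite S] [Fact p.Prime]

/-- A map of `R C_S(R)` trivial modulo `R` of order prime to `p` fixes the focal subgroup of `C_F(R)`. -/
theorem fix_focal (hS : IsPGroup p S) (hF : F.IsSaturated p) {R : Subgroup Ω}
    (hR : F.IsFullyCentralized R) {β : Ω → Ω} (hβ : IsMap F (R ⊔ centralizerIn S R) β)
    (hβR : ∀ r ∈ R, β r ∈ R) (hmod : ∀ c ∈ centralizerIn S R, c⁻¹ * β c ∈ R) {b : ℕ}
    (hbp : b.Coprime p) (hb : ∀ x ∈ R ⊔ centralizerIn S R, β^[b] x = x) :
    ∀ y ∈ (centSys F hR.1).focalSubgroup, β y = y := by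
  set C := centralizerIn S R with hC
  set D := centSys F hR.1 with hD
  haveI : Finite C := finite_of_le centralizerIn_le
  haveI := finite_of_le hR.1
  have hCp : IsPGroup p C := hS.to_le centralizerIn_le
  have hiR := isIso_of_mapsTo (hβ.mono le_sup_left) hβR
  have hCX : C ≤ R ⊔ C := le_sup_right
  have hβC : ∀ c ∈ C, β c ∈ C := fun c hc =>
    hiR.mem_centralizerIn_of_extends hβ le_sup_left (fun _ _ => rfl) (hCX hc) hc
  set f : Ω → Ω := fun c => c⁻¹ * β c with hf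
  have hfR : ∀ c ∈ C, f c ∈ R := hmod
  have hfC : ∀ c ∈ C, f c ∈ C := fun c hc => C.mul_mem (Subgroup.inv_mem _ hc) (hβC c hc)
  have hcomm : ∀ x ∈ C, ∀ y ∈ C, f x * y = y * f x := fun x hx y hy =>
    (FusionSys.mem_centralizerIn.1 hy).2 _ (hfR x hx)
  have hfmul : ∀ x ∈ C, ∀ y ∈ C, f (x * y) = f x * f y := fun x hx y hy => by
    show (x * y)⁻¹ * β (x * y) = _
    rw [hβ.map_mul (hCX hx) (hCX hy)]
    calc (x * y)⁻¹ * (β x * β y) = y⁻¹ * (f x * y) * f y := by simp only [hf]; group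
      _ = _ := by rw [hcomm x hx y hy, inv_mul_cancel_left]
  have hf1 : f 1 = 1 := by simp [hf, hβ.map_one]
  have hfinv : ∀ x ∈ C, f x⁻¹ = (f x)⁻¹ := fun x hx => eq_inv_of_mul_eq_one_left (by
    rw [← hfmul _ (C.inv_mem hx) x hx, inv_mul_cancel, hf1])
  have hfconj : ∀ a ∈ C, ∀ x ∈ C, f (a * x * a⁻¹) = f x := fun a ha x hx => by
    rw [hfmul _ (C.mul_mem ha hx) _ (C.inv_mem ha), hfmul a ha x hx, hfinv a ha,
      hcomm a ha _ (hfC x hx), mul_inv_cancel_right]
  have hsat : D.IsSaturated p :=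
    isSaturated_centralizer hS hF hR (isCentralizerSystem_centSys F hR.1)
  let D' : FusionSystem C := subSys D (fun P ψ => ∀ x ∈ P, f (ψ x) = f x)
    (fun _ _ _ h he x hx => (he x hx).symm ▸ h x hx)
    (fun _ a hP ha x hx => hfconj a ha x (hP hx))
    (fun _ _ ψ χ _ _ hm h1 h2 x hx => (h2 _ (hm x hx)).trans (h1 x hx))
    (fun P Q ψ χ hψ _ hinv h y hy => by
      obtain ⟨x, hx, rfl⟩ := hψ.exists_preimage hy
      rw [hinv x hx, h x hx])
  have hle : D ≤ D' := by
    refine le_of_autGroup_centricRadical hCp hsat fun P hPn hPc hPr α hα => ?_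
    have hPC : P ≤ C := hPn.1
    haveI : Finite P := finite_of_le hPC
    have hZP : ∀ z ∈ R, z ∈ C → z ∈ P := fun z hzR hzC =>
      centralizerIn_le_of_isCentric hPc (FusionSys.mem_centralizerIn.2 ⟨hzC, fun y hy =>
        ((FusionSys.mem_centralizerIn.1 (hPC hy)).2 z hzR).symm⟩)
    have hβP : ∀ x ∈ P, β x ∈ P := fun x hx => by
      have := P.mul_mem hx (hZP _ (hfR x (hPC hx)) (hfC x (hPC hx)))
      rwa [show x * f x = β x from mul_inv_cancel_left x (β x)] at this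
    -- maps of `D` fix `P ∩ R`
    have hfix : ∀ θ ∈ D.autGroup P, ∀ x ∈ P, x ∈ R → autMap θ x = x := by
      intro θ hθ x hx hxR
      obtain ⟨-, -, g, -, hge, hgR⟩ := (isMap_centSys_iff hR.1).1 ((mem_autGroup_iff hPC).1 hθ)
      rw [← hge x hx, hgR x hxR]
    obtain ⟨-, -, g, hg, hge, hgR⟩ := (isMap_centSys_iff hR.1).1 ((mem_autGroup_iff hPC).1 hα)
    have hXS : P ⊔ R ≤ R ⊔ C := sup_le (hPC.trans hCX) le_sup_left
    have hgX : ∀ x ∈ P ⊔ R, g x ∈ P ⊔ R := fun x hx => hg.mapsTo_sup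
      (fun y hy => Subgroup.mem_sup_left ((hge y hy).symm ▸ autMap_mem α hy))
      (fun r hr => Subgroup.mem_sup_right ((hgR r hr).symm ▸ hr)) hx
    haveI : Finite (P ⊔ R : Subgroup Ω) := finite_of_le hg.le
    have hβX : ∀ x ∈ P ⊔ R, β x ∈ P ⊔ R := fun x hx => (hβ.mono hXS).mapsTo_sup
      (fun y hy => Subgroup.mem_sup_left (hβP y hy))
      (fun r hr => Subgroup.mem_sup_right (hβR r hr)) hx
    obtain ⟨k, hk, hkβ, -⟩ := (isIso_of_mapsTo (hβ.mono hXS) hβX).exists_symm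
    have hc : IsMap F (P ⊔ R) (β ∘ (g ∘ k)) :=
      (hk.isMap.comp hg fun x hx => hk.mem hx).comp (hβ.mono hXS) fun x hx => hgX _ (hk.mem hx)
    have hiP := isIso_of_mapsTo ((hβ.mono hXS).mono le_sup_left) hβP
    have hcP : ∀ x ∈ P, (β ∘ (g ∘ k)) x ∈ P := fun x hx => by
      obtain ⟨y, hy, rfl⟩ := hiP.exists_preimage hx
      rw [Function.comp_apply, Function.comp_apply, hkβ y (Subgroup.mem_sup_left hy), hge y hy]
      exact hβP _ (autMap_mem α hy)
    have hcD : IsMap D P (β ∘ (g ∘ k)) := (isMap_centSys_iff hR.1).2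
      ⟨hPC, fun x hx => hPC (hcP x hx), _, hc, fun _ _ => rfl, fun r hr => by
        obtain ⟨r0, hr0, rfl⟩ := hiR.exists_preimage hr
        rw [Function.comp_apply, Function.comp_apply, hkβ r0 (Subgroup.mem_sup_right hr0),
          hgR r0 hr0]⟩
    obtain ⟨γ, hγ, hγe⟩ := (isIso_of_mapsTo hcD hcP).exists_aut
    let N : Subgroup (D.autGroup P) :=
      { carrier := {δ | ∀ x ∈ P, x⁻¹ * autMap (δ : MulAut P) x ∈ R}
        one_mem' := fun x hx => by simp [autMap_one hx, R.one_mem]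
        mul_mem' := by
          intro δ ε hδ hε x hx
          rw [Subgroup.coe_mul, autMap_mul _ _ hx]
          have := R.mul_mem (hε x hx) (hδ _ (autMap_mem (ε : MulAut P) hx))
          rwa [mul_assoc, mul_inv_cancel_left] at this
        inv_mem' := by
          intro δ hδ x hx
          rw [Subgroup.coe_inv]
          have hy := autMap_mem (δ : MulAut P)⁻¹ hx
          have := R.inv_mem (hδ _ hy)
          rwa [autMap_inv_apply _ hx, _root_.mul_inv_rev, inv_inv] at this }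
    have hN : N.Normal := by
      refine ⟨fun δ hδ θ x hx => ?_⟩
      set y := autMap (θ : MulAut P)⁻¹ x
      have hy : y ∈ P := autMap_mem _ hx
      have hd := hδ y hy
      have hdP : y⁻¹ * autMap (δ : MulAut P) y ∈ P := P.mul_mem (P.inv_mem hy) (autMap_mem _ hy)
      have hθm : IsMap D P (autMap (θ : MulAut P)) := (mem_autGroup_iff hPC).1 θ.2
      rw [Subgroup.coe_mul, Subgroup.coe_mul, Subgroup.coe_inv, autMap_mul _ _ hx,
        autMap_mul _ _ hy,
        show autMap (δ : MulAut P) y = y * (y⁻¹ * autMap (δ : MulAut P) y) by group,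
        hθm.map_mul hy hdP, hfix _ θ.2 _ hdP hd, autMap_inv_apply _ hx, inv_mul_cancel_left]
      exact hd
    have hNp : IsPGroup p N := by
      obtain ⟨n, hn⟩ := IsPGroup.iff_card.1 (hCp.to_le hPC)
      rintro ⟨δ, hδ⟩
      refine ⟨n, Subtype.ext (Subtype.ext (aut_ext fun x hx => ?_))⟩
      simp only [SubgroupClass.coe_pow, Subgroup.coe_one]
      have hdP : x⁻¹ * autMap (δ : MulAut P) x ∈ P := P.mul_mem (P.inv_mem hx) (autMap_mem _ hx)
      have hδm : IsMap D P (autMap (δ : MulAut P)) := (mem_autGroup_iff hPC).1 δ.2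
      have key : ∀ j : ℕ, autMap ((δ : MulAut P) ^ j) x = x * (x⁻¹ * autMap (δ : MulAut P) x) ^ j := by
        intro j
        induction j with
        | zero => rw [pow_zero, pow_zero, autMap_one hx, mul_one]
        | succ j ih =>
          rw [pow_succ', autMap_mul _ _ hx, ih, hδm.map_mul hx (P.pow_mem hdP j),
            hfix _ δ.2 _ (P.pow_mem hdP j) (R.pow_mem (hδ x hx) j), pow_succ', ← mul_assoc x,
            mul_inv_cancel_left]
      rw [key, ← hn, show (x⁻¹ * autMap (δ : MulAut P) x) ^ Nat.card P = 1 from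
        congrArg Subtype.val (pow_card_eq_one' (x := (⟨_, hdP⟩ : P))), mul_one, autMap_one hx]
    set δ : D.autGroup P := ⟨γ, hγ⟩ * ⟨α, hα⟩⁻¹ with hδ
    have hαm : IsMap D P (autMap α) := (mem_autGroup_iff hPC).1 hα
    have hfZ : ∀ y ∈ P, f y ∈ P := fun y hy => hZP _ (hfR y (hPC hy)) (hfC y (hPC hy))
    have hδv : ∀ y ∈ P, autMap (δ : MulAut P) (autMap α (β y)) = β (autMap α y) := fun y hy => by
      have hu := hβP y hy
      rw [hδ, Subgroup.coe_mul, Subgroup.coe_inv, autMap_mul _ _ (autMap_mem α hu),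
        ← autMap_mul _ α hu, inv_mul_cancel, autMap_one hu, hγe _ hu, Function.comp_apply,
        Function.comp_apply, hkβ y (Subgroup.mem_sup_left hy), hge y hy]
    have hαβ : ∀ y ∈ P, autMap α (β y) = autMap α y * f y := fun y hy => by
      rw [show β y = y * f y from (mul_inv_cancel_left y (β y)).symm,
        hαm.map_mul hy (hfZ y hy), hfix α hα _ (hfZ y hy) (hfR y (hPC hy))]
    have hδN : δ ∈ N := fun x hx => by
      obtain ⟨u, hu, rfl⟩ := (isIso_autMap hPC hα).exists_preimage hx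
      obtain ⟨y, hy, rfl⟩ := hiP.exists_preimage hu
      rw [hδv y hy, hαβ y hy, _root_.mul_inv_rev, mul_assoc]
      exact R.mul_mem (R.inv_mem (hfR y (hPC hy))) (hfR _ (hPC (autMap_mem α hy)))
    have hInn : (δ : MulAut P) ∈ Inn P := by
      rw [← hPr.2]
      exact Subgroup.mem_map_of_mem _ ((le_sSup ⟨hN, hNp⟩ : N ≤ pCore p (D.autGroup P)) hδN)
    obtain ⟨w, hw⟩ := hInn
    refine mem_autGroup_of_isMap ?_
    obtain ⟨φ, hφ, hφe⟩ := hαm
    refine ⟨φ, ⟨hφ, fun y hy => ?_⟩, hφe⟩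
    rw [homFun_mem φ hy, hφe ⟨y, hy⟩]
    show f (autMap α y) = f y
    have hay : autMap α y ∈ P := autMap_mem α hy
    have hyC := hPC hy
    have hayC := hPC hay
    set d := (f y)⁻¹ * f (autMap α y) with hd
    have hdC : d ∈ C := C.mul_mem (C.inv_mem (hfC y hyC)) (hfC _ hayC)
    have hfd : f d = 1 := by
      have hx : autMap α (β y) ∈ P := autMap_mem α (hβP y hy)
      have hdx : d = (autMap α (β y))⁻¹ * autMap (δ : MulAut P) (autMap α (β y)) := by
        rw [hδv y hy, hαβ y hy, hd, hf]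
        group
      rw [hdx, hfmul _ (C.inv_mem (hPC hx)) _ (hPC (autMap_mem _ hx)), hfinv _ (hPC hx), ← hw,
        autMap_apply _ hx]
      show _ * f ((w : Ω) * autMap α (β y) * (w : Ω)⁻¹) = _
      rw [hfconj _ (hPC w.2) _ (hPC hx), inv_mul_cancel]
    have hβd : β d = d := by
      rw [show β d = d * f d from (mul_inv_cancel_left d (β d)).symm, hfd, mul_one]
    have hc' : y⁻¹ * autMap α y ∈ C := C.mul_mem (C.inv_mem hyC) hayC
    have hfc : β (y⁻¹ * autMap α y) = y⁻¹ * autMap α y * d := by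
      rw [hd, ← hfinv y hyC, ← hfmul _ (C.inv_mem hyC) _ hayC]
      exact (mul_inv_cancel_left _ _).symm
    have key : ∀ j : ℕ, β^[j] (y⁻¹ * autMap α y) = y⁻¹ * autMap α y * d ^ j := by
      intro j
      induction j with
      | zero => simp
      | succ j ih =>
        rw [Function.iterate_succ_apply', ih, hβ.map_mul (hCX hc') (hCX (C.pow_mem hdC j)),
          hβ.map_pow (hCX hdC), hβd, hfc, pow_succ']
        group
    have hdb : d ^ b = 1 := by
      have h := key b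
      rw [hb _ (hCX hc')] at h
      exact mul_eq_left.1 h.symm
    have hd1 : d = 1 := Subgroup.mem_bot.1
      (mem_of_pow_mem hS (centralizerIn_le hdC) hbp (by rw [hdb]; exact Subgroup.one_mem _))
    rw [hd, inv_mul_eq_one] at hd1
    exact hd1.symm
  intro y hy
  let K : Subgroup Ω :=
    { carrier := {x | x ∈ R ⊔ C ∧ β x = x}
      one_mem' := ⟨one_mem _, hβ.map_one⟩
      mul_mem' := fun {a b} ha hb => ⟨mul_mem ha.1 hb.1, by rw [hβ.map_mul ha.1 hb.1, ha.2, hb.2]⟩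
      inv_mem' := fun {a} ha => ⟨Subgroup.inv_mem _ ha.1, by rw [hβ.map_inv ha.1, ha.2]⟩ }
  refine ((Subgroup.closure_le K).2 ?_ hy).2
  rintro _ ⟨P, φ, x, hφ, rfl⟩
  have hP : P ≤ C := (D.le_of_mem hφ).1
  have hφx : φ x ∈ C := (D.le_of_mem hφ).2 x
  have h := (hle P hφ).2 x x.2
  rw [homFun_coe] at h
  have hmem : (x : Ω)⁻¹ * φ x ∈ C := C.mul_mem (C.inv_mem (hP x.2)) hφx
  have h1 : f ((x : Ω)⁻¹ * φ x) = 1 := by
    rw [hfmul _ (C.inv_mem (hP x.2)) _ hφx, hfinv _ (hP x.2), h, inv_mul_cancel]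
  refine ⟨hCX hmem, ?_⟩
  rw [show β ((x : Ω)⁻¹ * φ x) = (x : Ω)⁻¹ * φ x * f ((x : Ω)⁻¹ * φ x) from
    (mul_inv_cancel_left _ _).symm, h1, mul_one]

/-- A subgroup containing a Sylow subgroup and all elements of order prime to `p` is everything. -/
theorem eq_top_of_sylow_le {G : Type*} [Group G] [Finite G] (W : Subgroup G) (Sy : Sylow p G)
    (h1 : (Sy : Subgroup G) ≤ W) (h2 : ∀ x : G, (orderOf x).Coprime p → x ∈ W) : W = ⊤ := by
  rw [← Subgroup.index_eq_one]
  by_contra hne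
  obtain ⟨q, hq, hqd⟩ := Nat.exists_prime_and_dvd hne
  haveI := Fact.mk hq
  by_cases hqp : q = p
  · subst hqp
    exact Sy.not_dvd_index (hqd.trans (Subgroup.index_dvd_of_le h1))
  · obtain ⟨Q⟩ : Nonempty (Sylow q G) := inferInstance
    refine Q.not_dvd_index (hqd.trans (Subgroup.index_dvd_of_le fun x hx => h2 x ?_))
    obtain ⟨k, hk⟩ := IsPGroup.iff_orderOf.1 Q.2 ⟨x, hx⟩
    rw [Subgroup.orderOf_mk] at hk
    rw [hk]
    exact Nat.Coprime.pow_left k ((Nat.coprime_primes hq Fact.out).2 hqp)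

variable (hS : IsPGroup p S) (hF : F.IsSaturated p) (hE : E.IsNormalIn F p)
  {D : FusionSystem (centralizerIn S T)} (hD : F.IsCentralizerSystem T D)
include hS hF hE hD

/-- The maps of `E` extend to maps fixing the focal subgroup of `C_F(T)`. -/
theorem exists_fixing {P : Subgroup Ω} {f : Ω → Ω} (hf : IsMap E P f) :
    ∃ g, IsMap F (P ⊔ D.focalSubgroup) g ∧ (∀ x ∈ P, g x = f x) ∧
      ∀ y ∈ D.focalSubgroup, g y = y := by
  set Y := D.focalSubgroup with hY
  obtain ⟨⟨hEs, -, hinv⟩, -⟩ := id hE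
  have hcl := hinv.2.1
  have hsub := hinv.1
  have hTS : T ≤ S := hcl.1
  haveI : Finite T := finite_of_le hTS
  have hTp : IsPGroup p T := hS.to_le hTS
  have hYC : Y ≤ centralizerIn S T := by
    refine (Subgroup.closure_le _).2 ?_
    rintro _ ⟨A, φ, x, hφ, rfl⟩
    exact (centralizerIn S T).mul_mem (Subgroup.inv_mem _ ((D.le_of_mem hφ).1 x.2))
      ((D.le_of_mem hφ).2 x)
  have hYS : Y ≤ S := hYC.trans centralizerIn_le
  have hYc : ∀ y ∈ Y, ∀ t ∈ T, t * y = y * t := fun y hy =>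
    (FusionSys.mem_centralizerIn.1 (hYC hy)).2
  let E' : FusionSystem T := subSys E
    (fun P f => ∃ g, IsMap F (P ⊔ Y) g ∧ (∀ x ∈ P, g x = f x) ∧ ∀ y ∈ Y, g y = y)
    (fun _ _ _ ⟨g, h1, h2, h3⟩ he => ⟨g, h1, fun x hx => (h2 x hx).trans (he x hx).symm, h3⟩)
    (fun A a hA ha => ⟨conjMap a, isMap_conj F (sup_le (hA.trans hTS) hYS) (hTS ha),
      fun _ _ => rfl, fun y hy => by rw [conjMap_apply, hYc y hy a ha, mul_inv_cancel_right]⟩)
    (fun A B u v _ _ hm ⟨u', hu', hu'e, hu'Y⟩ ⟨v', hv', hv'e, hv'Y⟩ => by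
      refine ⟨v' ∘ u', hu'.comp hv' fun x hx => ?_, fun x hx => ?_, fun y hy => ?_⟩
      · exact hu'.mapsTo_sup (fun z hz => Subgroup.mem_sup_left ((hu'e z hz).symm ▸ hm z hz))
          (fun z hz => Subgroup.mem_sup_right ((hu'Y z hz).symm ▸ hz)) hx
      · rw [Function.comp_apply, Function.comp_apply, hu'e x hx, hv'e _ (hm x hx)]
      · rw [Function.comp_apply, hu'Y y hy, hv'Y y hy])
    (fun A B u v hu _ hinv' ⟨u', hu', hu'e, hu'Y⟩ => by
      obtain ⟨v', hv', hvu⟩ := hu'.exists_inv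
      have hle : B ⊔ Y ≤ imgSub u' (A ⊔ Y) := by
        refine sup_le (fun z hz => ?_) fun z hz =>
          hu'.mem_imgSub.2 ⟨z, Subgroup.mem_sup_right hz, hu'Y z hz⟩
        obtain ⟨x, hx, rfl⟩ := hu.exists_preimage hz
        exact hu'.mem_imgSub.2 ⟨x, Subgroup.mem_sup_left hx, hu'e x hx⟩
      refine ⟨v', hv'.mono hle, fun z hz => ?_, fun z hz => ?_⟩
      · obtain ⟨x, hx, rfl⟩ := hu.exists_preimage hz
        rw [hinv' x hx, ← hu'e x hx, hvu x (Subgroup.mem_sup_left hx)]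
      · conv_lhs => rw [← hu'Y z hz]
        exact hvu z (Subgroup.mem_sup_right hz))
  suffices hle : E ≤ E' by
    obtain ⟨φ, ⟨-, g, hg, hge, hgY⟩, hφ⟩ := le_iff_isMap.1 hle P f hf
    exact ⟨g, hg, fun x hx => (hge x hx).trans ((homFun_mem φ hx).trans (hφ ⟨x, hx⟩)), hgY⟩
  refine le_of_autGroup_centricRadical hTp hEs fun R hRn hRc _ => ?_
  have hRT : R ≤ T := hRn.1
  haveI := finite_autGroup E hRT
  rw [← Subgroup.subgroupOf_eq_top]
  obtain ⟨-, Sy, hSy⟩ := isFullyAutomized_of_isFullyNormalized hTp hEs hRn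
  refine eq_top_of_sylow_le _ Sy ?_ fun α hα => ?_
  · rw [hSy]
    exact fun γ hγ => autInducedBy_le_autGroup E' hRT hγ
  rw [Subgroup.mem_subgroupOf]
  have hRS : R ≤ S := hRT.trans hTS
  obtain ⟨R', hRR', hR'n⟩ := exists_isFullyNormalized F hRS
  obtain ⟨g, hg, hgi, hgm⟩ := exists_map_to_fullyNormalized hS hF hR'n hRR'
  have hα' := autEquiv_mem hinv hRT hgi α.2
  obtain ⟨β0, hβ0, hβ0e, hβ0c⟩ :=
    hasExt_all hS hF hE (isCentric_target hinv hRc hgi) hR'n hα'
  obtain ⟨k, b, hbp, hβ, hβb, hβe⟩ :=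
    exists_pPrime_power (p := p) hβ0 fun x hx => HasExt.mapsTo hβ0 hβ0e hβ0c hx
  have hord : hgi.autEquiv (α : MulAut R) ^ orderOf α = 1 := by
    rw [← map_pow, ← SubgroupClass.coe_pow, pow_orderOf_eq_one, Subgroup.coe_one, map_one]
  have hβR : ∀ r ∈ R', β0^[k] r = autMap (hgi.autEquiv (α : MulAut R)) r := fun r hr => by
    rw [hβe r (Subgroup.mem_sup_left hr) (orderOf α) hα
      (by rw [autMap_pow _ hβ0e _ hr, hord, autMap_one hr]), hβ0e r hr]
  have hR'c := isFullyCentralized_of_isFullyNormalized hS hF hR'n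
  have hfix := fix_focal hS hF hR'c hβ (fun r hr => (hβR r hr).symm ▸ autMap_mem _ hr)
    (fun c hc => iterate_mod (fun x hx => HasExt.mapsTo hβ0 hβ0e hβ0c hx)
      (fun x hx => HasExt.mod hβ0 hβ0e hβ0c hx) k (Subgroup.mem_sup_right hc)) hbp hβb
  have hCTR : centralizerIn S T ≤ centralizerIn S R := fun c hc =>
    FusionSys.mem_centralizerIn.2 ⟨hc.1, fun r hr =>
      (FusionSys.mem_centralizerIn.1 hc).2 r (hRT hr)⟩
  have hCN : centralizerIn S T ≤ normalizerIn S R := hCTR.trans centralizerIn_le_normalizerIn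
  have hRN : R ≤ normalizerIn S R := le_normalizerIn_self hRS
  -- the images of the elements of `Y`
  let K : Subgroup Ω :=
    { carrier := {y | y ∈ normalizerIn S R ∧ g y ∈ (centSys F hR'c.1).focalSubgroup}
      one_mem' := ⟨one_mem _, by rw [hg.map_one]; exact one_mem _⟩
      mul_mem' := fun {a b} ha hb =>
        ⟨mul_mem ha.1 hb.1, by rw [hg.map_mul ha.1 hb.1]; exact mul_mem ha.2 hb.2⟩
      inv_mem' := fun {a} ha =>
        ⟨Subgroup.inv_mem _ ha.1, by rw [hg.map_inv ha.1]; exact Subgroup.inv_mem _ ha.2⟩ }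
  have hYK : Y ≤ K := by
    refine (Subgroup.closure_le K).2 ?_
    rintro _ ⟨A, φ, x, hφ, rfl⟩
    rw [hD A] at hφ
    obtain ⟨hA, hφC, h, hh, hhe, hhT⟩ := (centralizerHom_iff F).1 hφ
    have hxC : (x : Ω) ∈ centralizerIn S T := hA x.2
    have hxN := hCN hxC
    have hφN := hCN (hφC x)
    refine ⟨mul_mem (Subgroup.inv_mem _ hxN) hφN, ?_⟩
    rw [hg.map_mul (Subgroup.inv_mem _ hxN) hφN, hg.map_inv hxN]
    set X0 := Subgroup.zpowers (x : Ω) ⊔ R
    have hX0N : X0 ≤ normalizerIn S R := sup_le (Subgroup.zpowers_le.2 hxN) hRN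
    have hX0A : X0 ≤ A ⊔ T :=
      sup_le (Subgroup.zpowers_le.2 (Subgroup.mem_sup_left x.2)) (hRT.trans le_sup_right)
    have hh0 : IsMap F X0 h := hh.mono hX0A
    have hhN : ∀ z ∈ X0, h z ∈ normalizerIn S R := fun z hz => hh0.mapsTo_sup
      (fun w hw => by
        have hwA : w ∈ A := Subgroup.zpowers_le.2 x.2 hw
        exact (hhe ⟨w, hwA⟩).symm ▸ hCN (hφC ⟨w, hwA⟩))
      (fun r hr => (hhT r (hRT hr)).symm ▸ hRN hr) hz
    obtain ⟨v, hv, hvg, -⟩ := (hg.mono hX0N).isIso.exists_symm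
    have hψ : IsMap F (imgSub g X0) (g ∘ (h ∘ v)) :=
      (hv.isMap.comp hh0 fun z hz => hv.mem hz).comp hg fun z hz => hhN _ (hv.mem hz)
    have hψR : ∀ r ∈ R', (g ∘ (h ∘ v)) r = r := fun r hr => by
      obtain ⟨r0, hr0, rfl⟩ := hgi.exists_preimage hr
      rw [Function.comp_apply, Function.comp_apply, hvg r0 (Subgroup.mem_sup_right hr0),
        hhT r0 (hRT hr0)]
    have hle : Subgroup.zpowers (g x) ⊔ R' ≤ imgSub g X0 := by
      refine sup_le (Subgroup.zpowers_le.2 ((hg.mono hX0N).mem_imgSub.2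
        ⟨x, Subgroup.mem_sup_left (Subgroup.mem_zpowers _), rfl⟩)) fun r hr => ?_
      obtain ⟨r0, hr0, rfl⟩ := hgi.exists_preimage hr
      exact (hg.mono hX0N).mem_imgSub.2 ⟨r0, Subgroup.mem_sup_right hr0, rfl⟩
    have hgxC : g x ∈ centralizerIn S R' :=
      hgi.mem_centralizerIn_of_extends hg hRN (fun _ _ => rfl) hxN (hCTR hxC)
    have hψi : IsIso F R' R' (g ∘ (h ∘ v)) :=
      (isIso_id F hR'n.1).congr hψR
    have hD' : IsMap (centSys F hR'c.1) (Subgroup.zpowers (g x)) (g ∘ (h ∘ v)) :=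
      (isMap_centSys_iff hR'c.1).2 ⟨Subgroup.zpowers_le.2 hgxC, fun z hz =>
        hψi.mem_centralizerIn_of_extends (hψ.mono hle) le_sup_right (fun _ _ => rfl)
          (Subgroup.mem_sup_left hz) (Subgroup.zpowers_le.2 hgxC hz),
        _, hψ.mono hle, fun _ _ => rfl, hψR⟩
    obtain ⟨ψ, hψ', hψe⟩ := hD'
    refine Subgroup.subset_closure ⟨_, ψ, ⟨g x, Subgroup.mem_zpowers _⟩, hψ', ?_⟩
    rw [hψe]
    show _ = (g x)⁻¹ * g (h (v (g x)))
    rw [hvg x (Subgroup.mem_sup_left (Subgroup.mem_zpowers _)), hhe x]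
  obtain ⟨g', hg', hg'e⟩ := hg.exists_inv
  have hRY : R ⊔ Y ≤ normalizerIn S R := sup_le hRN (hYC.trans hCN)
  have hgP : IsMap F (R ⊔ Y) g := hg.mono hRY
  have hgX : ∀ x ∈ R ⊔ Y, g x ∈ R' ⊔ centralizerIn S R' := fun x hx => hgP.mapsTo_sup
    (fun r hr => Subgroup.mem_sup_left (hgi.mem hr))
    (fun y hy => Subgroup.mem_sup_right (hgi.mem_centralizerIn_of_extends hg hRN (fun _ _ => rfl)
      (hRY (Subgroup.mem_sup_right hy)) (hCTR (hYC hy)))) hx
  have hcomp : IsMap F (R ⊔ Y) (β0^[k] ∘ g) := hgP.comp hβ hgX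
  have himg : ∀ x ∈ R ⊔ Y, (β0^[k] ∘ g) x ∈ imgSub g (normalizerIn S R) := fun x hx =>
    hcomp.mapsTo_sup
      (fun r hr => hg.mem_imgSub.2 ⟨_, hRN (autMap_mem (α : MulAut R) hr), by
        rw [Function.comp_apply, hβR _ (hgi.mem hr), hgi.autMap_autEquiv _ hr]⟩)
      (fun y hy => hg.mem_imgSub.2 ⟨y, hRY (Subgroup.mem_sup_right hy), by
        rw [Function.comp_apply, hfix _ (hYK hy).2]⟩) hx
  obtain ⟨φ, hφ, hφe⟩ := (mem_autGroup_iff hRT).1 α.2
  refine mem_autGroup_of_isMap ⟨φ, ⟨hφ, _, hcomp.comp hg' himg, fun r hr => ?_, fun y hy => ?_⟩, hφe⟩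
  · rw [homFun_mem φ hr, hφe ⟨r, hr⟩, Function.comp_apply, Function.comp_apply,
      hβR _ (hgi.mem hr), hgi.autMap_autEquiv _ hr, hg'e _ (hRN (autMap_mem _ hr))]
  · rw [Function.comp_apply, Function.comp_apply, hfix _ (hYK hy).2,
      hg'e _ (hRY (Subgroup.mem_sup_right hy))]

end Cfsg.Agent.H91.CentFocal
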