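import Cfsg.Agent.H91.CentFocal.Basic
import Cfsg.Agent.H89.Extend

/-!
Automorphisms of a normal subsystem on a centric subgroup `R` extend to `R C_S(R)`, trivially modulo `R`.
-/

set_option autoImplicit false
set_option linter.style.haveILetI false

namespace Cfsg.Agent.H91.CentFocal

open Cfsg Cfsg.FusionSystem Cfsg.Agent.FusionSys
open Cfsg.FusionSystem (centralizerIn normalizerIn)

variable {Ω : Type*} [Group Ω] {S T : Subgroup Ω} {F : FusionSystem S} {E : FusionSystem T}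
  {p : ℕ}

/-- A finite group is generated by a normal subgroup containing a Sylow subgroup and the elements of
order prime to `p` normalizing it. -/
theorem eq_top_of_sylow_normalizer {G : Type*} [Group G] [Finite G] [Fact p.Prime] (Γ : Subgroup G)
    [Γ.Normal] (Sy : Sylow p G) (h1 : (Sy : Subgroup G) ≤ Γ)
    (h2 : ∀ x ∈ Subgroup.normalizer ((Sy : Subgroup G) : Set G), (orderOf x).Coprime p → x ∈ Γ) :
    Γ = ⊤ := by
  rw [eq_top_iff, ← Sylow.normalizer_sup_eq_top' Sy h1]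
  refine sup_le (fun x hx => ?_) le_rfl
  obtain ⟨a, b, hb, hab⟩ := Nat.exists_eq_pow_mul_and_not_dvd (orderOf_pos x).ne' p
    (Fact.out : p.Prime).ne_one
  have hbp : b.Coprime p := ((Fact.out : p.Prime).coprime_iff_not_dvd.2 hb).symm
  have hp' : x ^ b ∈ Γ := by
    have h : (x ^ b) ^ p ^ a = 1 := by rw [← pow_mul, mul_comm, ← hab, pow_orderOf_eq_one]
    obtain ⟨i, -, hi⟩ := (Nat.dvd_prime_pow (Fact.out : p.Prime)).1 (orderOf_dvd_of_pow_eq_one h)
    have hz : IsPGroup p (Subgroup.zpowers (x ^ b)) :=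
      IsPGroup.of_card (n := i) (by rw [Nat.card_zpowers, hi])
    have := Sy.3 (hz.to_sup_of_normal_right' Sy.2
      (Subgroup.zpowers_le.2 (Subgroup.pow_mem _ hx b))) le_sup_right
    refine h1 ?_
    rw [← this]
    exact Subgroup.mem_sup_left (Subgroup.mem_zpowers _)
  have hp : x ^ p ^ a ∈ Γ := by
    refine h2 _ (Subgroup.pow_mem _ hx _) (hbp.coprime_dvd_left (orderOf_dvd_of_pow_eq_one ?_))
    rw [← pow_mul, ← hab, pow_orderOf_eq_one]
  have key : x = (x ^ b) ^ Nat.gcdA b (p ^ a) * (x ^ p ^ a) ^ Nat.gcdB b (p ^ a) := by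
    rw [← zpow_natCast, ← zpow_natCast, ← zpow_mul, ← zpow_mul, ← zpow_add, ← Nat.gcd_eq_gcd_ab,
      (hbp.pow_right a).gcd_eq_one, Nat.cast_one, zpow_one]
  rw [key]
  exact Γ.mul_mem (Γ.zpow_mem hp' _) (Γ.zpow_mem hp _)

/-- Triviality modulo `Q` is checked on generators. -/
theorem mod_of_sup {A B Q : Subgroup Ω} {g : Ω → Ω} (hg : IsMap F (A ⊔ B) g)
    (hn : A ⊔ B ≤ Subgroup.normalizer (Q : Set Ω)) (hA : ∀ x ∈ A, x⁻¹ * g x ∈ Q)
    (hB : ∀ x ∈ B, x⁻¹ * g x ∈ Q) {x : Ω} (hx : x ∈ A ⊔ B) : x⁻¹ * g x ∈ Q := by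
  let K : Subgroup Ω :=
    { carrier := {x | x ∈ A ⊔ B ∧ x⁻¹ * g x ∈ Q}
      one_mem' := ⟨one_mem _, by simp [hg.map_one, Q.one_mem]⟩
      mul_mem' := by
        rintro a b ⟨ha, ha'⟩ ⟨hb, hb'⟩
        refine ⟨mul_mem ha hb, ?_⟩
        rw [hg.map_mul ha hb, show (a * b)⁻¹ * (g a * g b) =
          b⁻¹ * (a⁻¹ * g a) * b⁻¹⁻¹ * (b⁻¹ * g b) by group]
        exact Q.mul_mem ((Subgroup.mem_normalizer_iff.1 (hn (Subgroup.inv_mem _ hb)) _).1 ha') hb'
      inv_mem' := by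
        rintro a ⟨ha, ha'⟩
        refine ⟨Subgroup.inv_mem _ ha, ?_⟩
        rw [hg.map_inv ha, show a⁻¹⁻¹ * (g a)⁻¹ = a * (a⁻¹ * g a)⁻¹ * a⁻¹ by group]
        exact (Subgroup.mem_normalizer_iff.1 (hn ha) _).1 (Q.inv_mem ha') }
  exact ((sup_le (fun a ha => ⟨Subgroup.mem_sup_left ha, hA a ha⟩)
    (fun b hb => ⟨Subgroup.mem_sup_right hb, hB b hb⟩) : A ⊔ B ≤ K) hx).2

theorem le_normalizer_centralizerIn [Finite S] {R : Subgroup Ω} {u : Ω} (hu : u ∈ S)
    (hR : u ∈ Subgroup.normalizer (R : Set Ω)) :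
    u ∈ Subgroup.normalizer (centralizerIn S R : Set Ω) := by
  haveI := finite_of_le (S := S) (P := centralizerIn S R) centralizerIn_le
  refine mem_normalizer_of_maps fun c hc => ?_
  obtain ⟨hcS, hcc⟩ := FusionSys.mem_centralizerIn.1 hc
  refine FusionSys.mem_centralizerIn.2 ⟨S.mul_mem (S.mul_mem hu hcS) (S.inv_mem hu), fun y hy => ?_⟩
  have hy' : u⁻¹ * y * u ∈ R := (Subgroup.mem_normalizer_iff''.1 hR y).1 hy
  calc y * (u * c * u⁻¹) = u * (u⁻¹ * y * u * c) * u⁻¹ := by group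
    _ = u * (c * (u⁻¹ * y * u)) * u⁻¹ := by rw [hcc _ hy']
    _ = u * c * u⁻¹ * y := by group

theorem le_normalizer_self_sup {R : Subgroup Ω} :
    R ⊔ centralizerIn S R ≤ Subgroup.normalizer (R : Set Ω) :=
  sup_le Subgroup.le_normalizer fun c hc => by
    refine Subgroup.mem_normalizer_iff.2 fun y => ⟨fun hy => ?_, fun hy => ?_⟩
    · rw [← (FusionSys.mem_centralizerIn.1 hc).2 y hy, mul_inv_cancel_right]
      exact hy
    · have h := (FusionSys.mem_centralizerIn.1 hc).2 _ hy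
      have h' : y = c * y * c⁻¹ := by
        calc y = c⁻¹ * (c * y * c⁻¹ * c) := by group
          _ = c⁻¹ * (c * (c * y * c⁻¹)) := by rw [h]
          _ = c * y * c⁻¹ := by group
      rw [h']
      exact hy

/-- The automorphism `α` of `R` extends to `R C_S(R)`, trivially modulo `R`. -/
def HasExt (F : FusionSystem S) (R : Subgroup Ω) (α : MulAut R) : Prop :=
  ∃ g, IsMap F (R ⊔ centralizerIn S R) g ∧ (∀ r ∈ R, g r = autMap α r) ∧
    ∀ c ∈ centralizerIn S R, c⁻¹ * g c ∈ R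

theorem HasExt.mapsTo {R : Subgroup Ω} {α : MulAut R} {g : Ω → Ω}
    (hg : IsMap F (R ⊔ centralizerIn S R) g) (h1 : ∀ r ∈ R, g r = autMap α r)
    (h2 : ∀ c ∈ centralizerIn S R, c⁻¹ * g c ∈ R) {x : Ω} (hx : x ∈ R ⊔ centralizerIn S R) :
    g x ∈ R ⊔ centralizerIn S R := by
  refine hg.mapsTo_sup (fun r hr => Subgroup.mem_sup_left (h1 r hr ▸ autMap_mem α hr))
    (fun c hc => ?_) hx
  have := (R ⊔ centralizerIn S R).mul_mem (Subgroup.mem_sup_right hc) (Subgroup.mem_sup_left (h2 c hc))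
  rwa [mul_inv_cancel_left] at this

theorem HasExt.mod {R : Subgroup Ω} {α : MulAut R} {g : Ω → Ω}
    (hg : IsMap F (R ⊔ centralizerIn S R) g) (h1 : ∀ r ∈ R, g r = autMap α r)
    (h2 : ∀ c ∈ centralizerIn S R, c⁻¹ * g c ∈ R) {x : Ω} (hx : x ∈ R ⊔ centralizerIn S R) :
    x⁻¹ * g x ∈ R :=
  mod_of_sup hg le_normalizer_self_sup
    (fun r hr => R.mul_mem (R.inv_mem hr) (h1 r hr ▸ autMap_mem α hr)) h2 hx

/-- `Q C_S(Q)` is centric when `Q` is fully centralized. -/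
theorem isCentric_sup_centralizer [Finite S] {Q : Subgroup Ω} (hQ : F.IsFullyCentralized Q) :
    F.IsCentric (Q ⊔ centralizerIn S Q) := by
  refine ⟨sup_le hQ.1 centralizerIn_le, fun P hP x hx => ?_⟩
  obtain ⟨h, hh⟩ := isConj_iff.1 hP
  have hhQ := (hh.isMap.mono (le_sup_left : Q ≤ Q ⊔ centralizerIn S Q)).isIso
  haveI := finite_of_le (S := S) (P := centralizerIn S (imgSub h Q)) centralizerIn_le
  obtain ⟨hxS, hxc⟩ := FusionSys.mem_centralizerIn.1 hx
  have hx' : x ∈ centralizerIn S (imgSub h Q) := FusionSys.mem_centralizerIn.2 ⟨hxS, fun y hy => by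
    obtain ⟨q, hq, rfl⟩ := hhQ.exists_preimage hy
    exact hxc _ (hh.mem (Subgroup.mem_sup_left hq))⟩
  obtain ⟨c, hc, rfl⟩ := exists_preimage_of_card hh.isMap le_sup_right
    (fun c hc => hhQ.mem_centralizerIn_of_extends hh.isMap le_sup_left (fun _ _ => rfl)
      (Subgroup.mem_sup_right hc) hc) (hQ.2 _ hhQ.isConj) hx'
  exact hh.mem (Subgroup.mem_sup_right hc)

theorem mem_of_pow_mem {Q : Subgroup Ω} [Finite S] [Fact p.Prime] (hS : IsPGroup p S) {c : Ω}
    (hc : c ∈ S) {b : ℕ} (hb : b.Coprime p) (h : c ^ b ∈ Q) : c ∈ Q := by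
  obtain ⟨n, hn⟩ := IsPGroup.iff_card.1 hS
  have hc1 : c ^ p ^ n = 1 := by
    rw [← hn]
    exact congrArg Subtype.val (pow_card_eq_one' (x := (⟨c, hc⟩ : S)))
  obtain ⟨m, hm⟩ := exists_pow_eq_self_of_coprime (x := c)
    ((hb.pow_right n).coprime_dvd_right (orderOf_dvd_of_pow_eq_one hc1))
  exact hm ▸ Q.pow_mem h m

variable [Finite S] [Fact p.Prime]

/-- Extending one step further: automorphisms commuting with conjugation by `U` modulo inner ones. -/
theorem extend_step (hS : IsPGroup p S) (hF : F.IsSaturated p) {Q U : Subgroup Ω}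
    (hQ : F.IsFullyNormalized Q) {α : MulAut Q} {m : ℕ} (hmp : m.Coprime p) (hm : α ^ m = 1)
    (hext : HasExt F Q α)
    (hU : ∀ u ∈ U, u ∈ S ∧ u ∈ Subgroup.normalizer (Q : Set Ω) ∧ ∃ q ∈ Q, ∀ x ∈ Q,
      autMap α (u * x * u⁻¹) = q * u * autMap α x * (q * u)⁻¹) :
    ∃ g, IsMap F (U ⊔ (Q ⊔ centralizerIn S Q)) g ∧ (∀ x ∈ Q, g x = autMap α x) ∧
      ∀ u ∈ U, u⁻¹ * g u ∈ Q := by
  obtain ⟨g0, hg0, hgα, hgc⟩ := hext
  have hQc := isFullyCentralized_of_isFullyNormalized hS hF hQ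
  have hPcen := isCentric_sup_centralizer hQc
  have hrec : F.IsReceptive (Q ⊔ centralizerIn S Q) :=
    receptive_of_isFullyCentralized hS hF (isFullyCentralized_of_centric_le (E := F) (le_refl' F) hPcen)
  set P := Q ⊔ centralizerIn S Q with hP
  have hPS : P ≤ S := hg0.le
  have hQP : Q ≤ P := le_sup_left
  have hnQ : P ≤ Subgroup.normalizer (Q : Set Ω) := le_normalizer_self_sup
  have hmaps : ∀ x ∈ P, g0 x ∈ P := fun x hx => HasExt.mapsTo hg0 hgα hgc hx
  have hiter : ∀ x ∈ Q, g0^[m] x = x := fun x hx => by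
    rw [autMap_pow α hgα m hx, hm, autMap_one hx]
  obtain ⟨k, b, hbp, hβ, hβb, hβe⟩ := exists_pPrime_power (p := p) hg0 hmaps
  set β := g0^[k] with hβdef
  have hβQ : ∀ x ∈ Q, β x = autMap α x := fun x hx =>
    (hβe x (hQP hx) m hmp (hiter x hx)).trans (hgα x hx)
  have hβP : ∀ x ∈ P, β x ∈ P := fun x hx => iterate_mem hmaps k hx
  have hβmod : ∀ x ∈ P, x⁻¹ * β x ∈ Q := fun x hx =>
    iterate_mod hmaps (fun y hy => HasExt.mod hg0 hgα hgc hy) k hx
  have hb0 : 0 < b := by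
    rcases Nat.eq_zero_or_pos b with h0 | h0
    · subst h0
      exact absurd ((Nat.coprime_zero_left p).1 hbp) (Fact.out : p.Prime).ne_one
    · exact h0
  set β' := β^[b - 1] with hβ'def
  have hβ' : IsMap F P β' := isMap_iterate hβ hβP _
  have hββ' : ∀ x ∈ P, β (β' x) = x := fun x hx => by
    show β (β^[b - 1] x) = x
    rw [← Function.iterate_succ_apply' β, Nat.succ_eq_add_one, Nat.sub_add_cancel hb0]
    exact hβb x hx
  have hβ'β : ∀ x ∈ P, β' (β x) = x := fun x hx => by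
    show β^[b - 1] (β x) = x
    rw [← Function.iterate_succ_apply β, Nat.succ_eq_add_one, Nat.sub_add_cancel hb0]
    exact hβb x hx
  have hβ'P : ∀ x ∈ P, β' x ∈ P := fun x hx => iterate_mem hβP _ hx
  have hβ'mod : ∀ x ∈ P, x⁻¹ * β' x ∈ Q := fun x hx => iterate_mod hβP hβmod _ hx
  haveI := finite_of_le hPS
  haveI := finite_of_le hQ.1
  obtain ⟨n, hn⟩ := IsPGroup.iff_card.1 (hS.to_le hQ.1)
  -- every `u` lies in the extender, with a translate
  have hu : ∀ u ∈ U, InExt S P β u ∧ u ∈ Subgroup.normalizer (P : Set Ω) ∧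
      ∃ p0 ∈ P, ∀ x ∈ P, β (u * x * u⁻¹) = p0 * u * β x * (p0 * u)⁻¹ := by
    intro u huU
    obtain ⟨huS, hun, q, hq, hqe⟩ := hU u huU
    have huP : ∀ y ∈ P, u * y * u⁻¹ ∈ P := fun y hy =>
      (isMap_conj F hPS huS).mapsTo_sup
        (fun z hz => Subgroup.mem_sup_left ((Subgroup.mem_normalizer_iff.1 hun z).1 hz))
        (fun z hz => Subgroup.mem_sup_right
          ((Subgroup.mem_normalizer_iff.1 (le_normalizer_centralizerIn huS hun) z).1 hz)) hy
    have hnP : u ∈ Subgroup.normalizer (P : Set Ω) := mem_normalizer_of_maps huP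
    have huP' : ∀ y ∈ P, u⁻¹ * y * u ∈ P := fun y hy => (Subgroup.mem_normalizer_iff''.1 hnP y).1 hy
    set γ : Ω → Ω := fun x => q⁻¹ * β (u * β' (u⁻¹ * x * u) * u⁻¹) * q with hγdef
    have hγm : IsMap F P γ := by
      have h1 := (((isMap_conj F hPS (S.inv_mem huS)).comp hβ' fun x hx => by
        simpa [conjMap_apply] using huP' x hx).comp (isMap_conj F hPS huS) fun x hx =>
        hβ'P _ (by simpa [conjMap_apply] using huP' x hx)).comp hβ fun x hx =>
        huP _ (hβ'P _ (by simpa [conjMap_apply] using huP' x hx))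
      refine (h1.comp (isMap_conj F hPS (S.inv_mem (hQ.1 hq))) fun x hx => hβP _
        (huP _ (hβ'P _ (by simpa [conjMap_apply] using huP' x hx)))).congr fun x _ => ?_
      simp [hγdef, conjMap_apply, Function.comp_apply]
    have hγQ : ∀ x ∈ Q, γ x = x := fun x hx => by
      have hx1 : u⁻¹ * x * u ∈ Q := (Subgroup.mem_normalizer_iff''.1 hun x).1 hx
      have hy : β' (u⁻¹ * x * u) ∈ Q := by
        have := Q.mul_mem hx1 (hβ'mod _ (hQP hx1))
        rwa [mul_inv_cancel_left] at this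
      show q⁻¹ * β (u * β' (u⁻¹ * x * u) * u⁻¹) * q = x
      rw [hβQ _ ((Subgroup.mem_normalizer_iff.1 hun _).1 hy), hqe _ hy, ← hβQ _ hy,
        hββ' _ (hQP hx1)]
      group
    have hγmod : ∀ x ∈ P, x⁻¹ * γ x ∈ Q := fun x hx => by
      have hx1 := huP' x hx
      have hq1 := hβ'mod _ hx1
      have h2 : x⁻¹ * (u * β' (u⁻¹ * x * u) * u⁻¹) ∈ Q := by
        rw [show x⁻¹ * (u * β' (u⁻¹ * x * u) * u⁻¹) =
          u * ((u⁻¹ * x * u)⁻¹ * β' (u⁻¹ * x * u)) * u⁻¹ by group]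
        exact (Subgroup.mem_normalizer_iff.1 hun _).1 hq1
      have hy := huP _ (hβ'P _ hx1)
      rw [show x⁻¹ * γ x = x⁻¹ * q⁻¹ * x⁻¹⁻¹ * (x⁻¹ * (u * β' (u⁻¹ * x * u) * u⁻¹)) *
          ((u * β' (u⁻¹ * x * u) * u⁻¹)⁻¹ * β (u * β' (u⁻¹ * x * u) * u⁻¹)) * q by
        simp only [hγdef]; group]
      exact Q.mul_mem (Q.mul_mem (Q.mul_mem
        ((Subgroup.mem_normalizer_iff.1 (hnQ (P.inv_mem hx)) _).1 (Q.inv_mem hq)) h2)
        (hβmod _ hy)) hq
    have hpow : ∀ x ∈ P, γ^[p ^ n] x = x := by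
      intro x hx
      have hd := hγmod x hx
      have key : ∀ j : ℕ, γ^[j] x = x * (x⁻¹ * γ x) ^ j := by
        intro j
        induction j with
        | zero => simp
        | succ j ih =>
          rw [Function.iterate_succ_apply', ih, hγm.map_mul hx (hQP (Q.pow_mem hd j)),
            hγQ _ (Q.pow_mem hd j), pow_succ', ← mul_assoc x, mul_inv_cancel_left]
      rw [key, ← hn, show (x⁻¹ * γ x) ^ Nat.card Q = 1 from
        congrArg Subtype.val (pow_card_eq_one' (x := (⟨_, hd⟩ : Q))), mul_one]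
    obtain ⟨w, hw, hwe⟩ := exists_conj_of_fix hS hF hQc hγm hγQ
      ⟨n, fun c hc => hpow c (Subgroup.mem_sup_right hc)⟩
    have he : ∀ x ∈ P, β (u * x * u⁻¹) = q * w * u * β x * (q * w * u)⁻¹ := fun x hx => by
      have hy : u * β x * u⁻¹ ∈ P := huP _ (hβP x hx)
      have h := hwe _ hy
      rw [conjMap_apply, show γ (u * β x * u⁻¹) = q⁻¹ * β (u * x * u⁻¹) * q by
        simp only [hγdef]
        rw [show u⁻¹ * (u * β x * u⁻¹) * u = β x by group, hβ'β x hx]] at h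
      calc β (u * x * u⁻¹) = q * (q⁻¹ * β (u * x * u⁻¹) * q) * q⁻¹ := by group
        _ = _ := by rw [h]; group
    exact ⟨⟨huS, hnP, q * w * u, S.mul_mem (S.mul_mem (hQ.1 hq) (centralizerIn_le hw)) huS, he⟩,
      hnP, q * w, P.mul_mem (hQP hq) (Subgroup.mem_sup_right hw), he⟩
  obtain ⟨G, hG, hGe⟩ := receptive_extend hrec (isIso_of_mapsTo hβ hβP) fun u huU => (hu u huU).1
  have hGP : ∀ x ∈ P, G x ∈ P := fun x hx => (hGe x hx).symm ▸ hβP x hx
  have hGU : ∀ u ∈ U, u⁻¹ * G u ∈ P := by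
    intro u huU
    obtain ⟨-, hnP, p0, hp0, he⟩ := hu u huU
    have huX : u ∈ U ⊔ P := Subgroup.mem_sup_left huU
    have hc : (p0 * u)⁻¹ * G u ∈ centralizerIn S P := by
      refine FusionSys.mem_centralizerIn.2 ⟨S.mul_mem (S.inv_mem (S.mul_mem (hPS hp0) (hG.le huX)))
        (hG.mem_S huX), fun z hz => ?_⟩
      have hy := hβ'P z hz
      have h := he _ hy
      rw [hββ' z hz, ← hGe _ ((Subgroup.mem_normalizer_iff.1 hnP _).1 hy),
        hG.map_conj huX (Subgroup.mem_sup_right hy), hGe _ hy, hββ' z hz] at h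
      calc z * ((p0 * u)⁻¹ * G u) = (p0 * u)⁻¹ * (p0 * u * z * (p0 * u)⁻¹) * G u := by group
        _ = (p0 * u)⁻¹ * G u * z := by rw [← h]; group
    rw [show u⁻¹ * G u = u⁻¹ * p0 * u * ((p0 * u)⁻¹ * G u) by group]
    exact P.mul_mem ((Subgroup.mem_normalizer_iff''.1 hnP _).1 hp0)
      (centralizerIn_le_of_isCentric hPcen hc)
  have hGX : ∀ x ∈ U ⊔ P, G x ∈ U ⊔ P := fun x hx => hG.mapsTo_sup
    (fun u huU => by
      simpa using (U ⊔ P).mul_mem (Subgroup.mem_sup_left huU) (Subgroup.mem_sup_right (hGU u huU)))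
    (fun y hy => Subgroup.mem_sup_right (hGP y hy)) hx
  obtain ⟨k2, b2, hb2, hH, hHb, hHe⟩ := exists_pPrime_power (p := p) hG hGX
  set H := G^[k2] with hHdef
  have hHmodP : ∀ x ∈ P, x⁻¹ * H x ∈ Q := fun x hx =>
    iterate_mod hGP (fun y hy => (hGe y hy).symm ▸ hβmod y hy) k2 hx
  refine ⟨H, hH, fun x hx => ?_, fun u huU => ?_⟩
  · have hGQ : ∀ y ∈ Q, G y = autMap α y := fun y hy => (hGe y (hQP hy)).trans (hβQ y hy)
    rw [hHe x (Subgroup.mem_sup_right (hQP hx)) m hmp (by rw [autMap_pow α hGQ m hx, hm, autMap_one hx]),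
      hGQ x hx]
  · have huX : u ∈ U ⊔ P := Subgroup.mem_sup_left huU
    have hHu : u⁻¹ * H u ∈ P := by
      have hn' : U ⊔ P ≤ Subgroup.normalizer (P : Set Ω) :=
        sup_le (fun v hv => (hu v hv).2.1) Subgroup.le_normalizer
      exact iterate_mod hGX (fun y hy => mod_of_sup hG hn' hGU
        (fun z hz => P.mul_mem (P.inv_mem hz) (hGP z hz)) hy) k2 huX
    set c := u⁻¹ * H u with hc
    have key : ∀ j : ℕ, ∃ q ∈ Q, H^[j] u = u * c ^ j * q := by
      intro j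
      induction j with
      | zero => exact ⟨1, Q.one_mem, by simp⟩
      | succ j ih =>
        obtain ⟨q, hq, he⟩ := ih
        have hy : c ^ j * q ∈ P := P.mul_mem (P.pow_mem hHu j) (hQP hq)
        refine ⟨q * ((c ^ j * q)⁻¹ * H (c ^ j * q)), Q.mul_mem hq (hHmodP _ hy), ?_⟩
        rw [Function.iterate_succ_apply', he, mul_assoc, hH.map_mul huX (Subgroup.mem_sup_right hy),
          pow_succ', hc]
        group
    obtain ⟨q, hq, he⟩ := key b2
    rw [hHb u huX, eq_comm, mul_assoc, mul_eq_left] at he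
    refine mem_of_pow_mem hS (hPS hHu) hb2 ?_
    rw [eq_inv_of_mul_eq_one_left he]
    exact Q.inv_mem hq

/-- The automorphisms having an extension. -/
def extGroup (F : FusionSystem S) (E : FusionSystem T) (hTS : T ≤ S) {R : Subgroup Ω} (hR : R ≤ T) :
    Subgroup (E.autGroup R) :=
  haveI : Finite T := finite_of_le hTS
  haveI : Finite (E.autGroup R) := finite_autGroup E hR
  { carrier := {α | HasExt F R α}
    one_mem' := ⟨id, isMap_id F (sup_le (hR.trans hTS) centralizerIn_le),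
      fun r hr => (autMap_one hr).symm, fun c _ => by simp [R.one_mem]⟩
    mul_mem' := by
      rintro α β ⟨f, hf, hf1, hf2⟩ ⟨g, hg, hg1, hg2⟩
      refine ⟨f ∘ g, hg.comp hf fun x hx => HasExt.mapsTo hg hg1 hg2 hx, fun r hr => ?_,
        fun c hc => ?_⟩
      · rw [Function.comp_apply, hg1 r hr, hf1 _ (autMap_mem _ hr)]
        exact (autMap_mul _ _ hr).symm
      · have hcP : c ∈ R ⊔ centralizerIn S R := Subgroup.mem_sup_right hc
        rw [Function.comp_apply, show c⁻¹ * f (g c) = c⁻¹ * g c * ((g c)⁻¹ * f (g c)) by group]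
        exact R.mul_mem (hg2 c hc) (HasExt.mod hf hf1 hf2 (HasExt.mapsTo hg hg1 hg2 hcP))
    inv_mem' := by
      intro α hα
      have hpow : ∀ n : ℕ, HasExt F R ((α ^ n : E.autGroup R) : MulAut R) := by
        intro n
        obtain ⟨f, hf, hf1, hf2⟩ := hα
        have hm : ∀ x ∈ R ⊔ centralizerIn S R, f x ∈ R ⊔ centralizerIn S R :=
          fun x hx => HasExt.mapsTo hf hf1 hf2 hx
        refine ⟨f^[n], isMap_iterate hf hm n, fun r hr => ?_, fun c hc =>
          iterate_mod hm (fun x hx => HasExt.mod hf hf1 hf2 hx) n (Subgroup.mem_sup_right hc)⟩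
        rw [autMap_pow _ hf1 n hr, SubgroupClass.coe_pow]
      have h : α⁻¹ = α ^ (orderOf α - 1) :=
        inv_eq_of_mul_eq_one_right (by
          rw [← pow_succ', Nat.sub_add_cancel (orderOf_pos α), pow_orderOf_eq_one])
      show HasExt F R ((α⁻¹ : E.autGroup R) : MulAut R)
      rw [h]
      exact hpow _ }

variable (hS : IsPGroup p S) (hF : F.IsSaturated p) (hE : E.IsNormalIn F p)
include hS hF hE

theorem hasExt_conjAut {R : Subgroup Ω} (hR : E.IsCentric R) {t : Ω} (ht : t ∈ T)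
    (htn : t ∈ Subgroup.normalizer (R : Set Ω)) : HasExt F R (conjAut htn) := by
  have hcl := hE.1.2.2.2.1
  have htS : t ∈ S := hcl.1 ht
  refine ⟨conjMap t, isMap_conj F (sup_le (hR.1.trans hcl.1) centralizerIn_le) htS,
    fun r hr => (autMap_conjAut htn hr).symm, fun c hc => ?_⟩
  have hT : c⁻¹ * conjMap t c ∈ T := by
    rw [conjMap_apply, show c⁻¹ * (t * c * t⁻¹) = c⁻¹ * t * c⁻¹⁻¹ * t⁻¹ by group]
    exact T.mul_mem (conj_mem_closed hcl (S.inv_mem (centralizerIn_le hc)) ht) (T.inv_mem ht)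
  haveI : Finite T := finite_of_le hcl.1
  refine centralizerIn_le_of_isCentric hR (Subgroup.mem_inf.2 ⟨hT, ?_⟩)
  exact (Subgroup.mem_inf.1 ((centralizerIn S R).mul_mem (Subgroup.inv_mem _ hc)
    ((Subgroup.mem_normalizer_iff.1 (le_normalizer_centralizerIn htS htn) c).1 hc))).2

theorem mem_extGroup {R : Subgroup Ω} (hR : R ≤ T) {α : E.autGroup R} :
    α ∈ extGroup F E hE.1.2.2.2.1.1 hR ↔ HasExt F R α := Iff.rfl

theorem extGroup_normal {R : Subgroup Ω} (hR : R ≤ T) (hRn : F.IsFullyNormalized R) :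
    (extGroup F E hE.1.2.2.2.1.1 hR).Normal := by
  refine ⟨fun α hα θ => ?_⟩
  obtain ⟨f, hf, hf1, hf2⟩ := hα
  have hcl := hE.1.2.2.2.1
  haveI := finite_of_le hf.le
  have hθE : IsIso E R R (autMap (θ : MulAut R)) := isIso_autMap hR θ.2
  have hθ := isIso_of_sub hE.1.2.2.1 hθE
  obtain ⟨g, hg, hge⟩ := receptive_extend (receptive_of_isFullyNormalized hS hF hRn) hθ
    (N := centralizerIn S R) fun x hx => hθ.isMap.inExt_of_centralizes hx
  have hg' : IsMap F (R ⊔ centralizerIn S R) g := sup_comm R (centralizerIn S R) ▸ hg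
  have hgC : ∀ c ∈ centralizerIn S R, g c ∈ centralizerIn S R := fun c hc =>
    hθ.mem_centralizerIn_of_extends hg' le_sup_left hge (Subgroup.mem_sup_right hc) hc
  have hgP : ∀ x ∈ R ⊔ centralizerIn S R, g x ∈ R ⊔ centralizerIn S R := fun x hx =>
    hg'.mapsTo_sup (fun r hr => Subgroup.mem_sup_left ((hge r hr).symm ▸ hθ.mem hr))
      (fun c hc => Subgroup.mem_sup_right (hgC c hc)) hx
  obtain ⟨g', hgi, hg'g, hgg'⟩ := (isIso_of_mapsTo hg' hgP).exists_symm
  have hfP : ∀ x ∈ R ⊔ centralizerIn S R, f x ∈ R ⊔ centralizerIn S R :=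
    fun x hx => HasExt.mapsTo hf hf1 hf2 hx
  refine ⟨g ∘ (f ∘ g'), (hgi.isMap.comp hf fun x hx => hgi.mem hx).comp hg'
    (fun x hx => hfP _ (hgi.mem hx)), fun r hr => ?_, fun c hc => ?_⟩
  · obtain ⟨y, hy, rfl⟩ := hθ.exists_preimage hr
    rw [Function.comp_apply, Function.comp_apply, ← hge y hy, hg'g _ (Subgroup.mem_sup_left hy),
      hf1 y hy, hge _ (autMap_mem _ hy), hge y hy, Subgroup.coe_mul, Subgroup.coe_mul,
      ← autMap_mul _ _ hy, ← autMap_mul _ _ hy]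
    congr 1
    simp
  · have hcP : c ∈ R ⊔ centralizerIn S R := Subgroup.mem_sup_right hc
    have hy := hgi.mem hcP
    have hm := HasExt.mod hf hf1 hf2 hy
    rw [Function.comp_apply, Function.comp_apply,
      show f (g' c) = g' c * ((g' c)⁻¹ * f (g' c)) by group,
      hg'.map_mul hy (Subgroup.mem_sup_left hm), hgg' c hcP, hge _ hm, inv_mul_cancel_left]
    exact autMap_mem _ hm

/-- The inductive step: automorphisms of order prime to `p` normalizing `Aut_T(R)`. -/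
theorem hasExt_step {R : Subgroup Ω} (hR : E.IsCentric R) (hRn : F.IsFullyNormalized R) (hlt : R < T)
    (IH : ∀ Q, E.IsCentric Q → F.IsFullyNormalized Q → Nat.card R < Nat.card Q →
      ∀ α ∈ E.autGroup Q, HasExt F Q α)
    {θ : MulAut R} (hθ : θ ∈ E.autGroup R) {m : ℕ} (hmp : m.Coprime p) (hm : θ ^ m = 1)
    (hnorm : ∀ x ∈ normalizerIn T R, ∀ hx : x ∈ Subgroup.normalizer (R : Set Ω),
      θ * conjAut hx * θ⁻¹ ∈ autInducedBy T R) : HasExt F R θ := by
  obtain ⟨⟨hEs, -, hinv⟩, -⟩ := hE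
  have hcl := hinv.2.1
  have hsub := hinv.1
  have hTS : T ≤ S := hcl.1
  haveI : Finite T := finite_of_le hTS
  have hTp : IsPGroup p T := hS.to_le hTS
  set Q := normalizerIn T R with hQdef
  have hRQ : R < Q := FusionSys.lt_normalizerIn hTp hlt
  have hQT : Q ≤ T := inf_le_left
  haveI : Finite Q := finite_of_le hQT
  have hQE : E.IsCentric Q := isCentric_of_le hR hRQ.le hQT
  have hrec := receptive_of_isFullyNormalized hTp hEs (isFullyNormalized_sub hS hF hsub hcl hR.1 hRn)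
  obtain ⟨θ1, hθ1, hθ1e⟩ := receptive_extend hrec (isIso_autMap hR.1 hθ) (N := Q)
    fun x hx => inExt_autMap hx.1 hx.2 (hnorm x hx hx.2)
  rw [sup_of_le_left hRQ.le] at hθ1
  have hθ1Q : ∀ x ∈ Q, θ1 x ∈ Q := fun x hx =>
    (isIso_autMap hR.1 hθ).mem_normalizerIn_of_extends hθ1 hRQ.le hθ1e hx hx.2
  obtain ⟨k, b, hbp, hθ2, hθ2b, hθ2e⟩ := exists_pPrime_power (p := p) hθ1 hθ1Q
  obtain ⟨α, hα, hαe⟩ := (isIso_of_mapsTo hθ2 fun x hx => iterate_mem hθ1Q k hx).exists_aut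
  have hαR : ∀ r ∈ R, autMap α r = autMap θ r := fun r hr => by
    rw [hαe r (hRQ.le hr), hθ2e r (hRQ.le hr) m hmp (by rw [autMap_pow θ hθ1e m hr, hm, autMap_one hr]),
      hθ1e r hr]
  have hαb : α ^ b = 1 := aut_ext fun x hx => by
    rw [← autMap_pow α (fun y hy => (hαe y hy).symm) b hx, hθ2b x hx, autMap_one hx]
  -- conjugation by `C_S(R)` commutes with `α` modulo `Inn(Q)`
  have hC : ∀ u ∈ centralizerIn S R, u ∈ normalizerIn S Q ∧ ∃ q ∈ Q, ∀ x ∈ Q,
      autMap α (u * x * u⁻¹) = q * u * autMap α x * (q * u)⁻¹ := by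
    intro u hu
    obtain ⟨huS, huc⟩ := FusionSys.mem_centralizerIn.1 hu
    have hur : ∀ r ∈ R, u * r * u⁻¹ = r := fun r hr => by rw [← huc r hr, mul_inv_cancel_right]
    have hun : u ∈ Subgroup.normalizer (R : Set Ω) := (centralizerIn_le_normalizerIn hu).2
    have huQ : ∀ x ∈ Q, u * x * u⁻¹ ∈ Q := fun x hx =>
      ⟨conj_mem_closed hcl huS hx.1,
        (Subgroup.normalizer (R : Set Ω)).mul_mem
          ((Subgroup.normalizer (R : Set Ω)).mul_mem hun hx.2) (Subgroup.inv_mem _ hun)⟩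
    refine ⟨⟨huS, mem_normalizer_of_maps huQ⟩, ?_⟩
    have hcu : IsIso F Q Q (conjMap u) :=
      isIso_of_mapsTo (isMap_conj F (hQT.trans hTS) huS) huQ
    have hγ := autEquiv_mem hinv hQT hcu hα
    have hagree : ∀ r ∈ R, autMap α r = autMap (hcu.autEquiv α) r := fun r hr => by
      conv_rhs => rw [← hur r hr, ← conjMap_apply, hcu.autMap_autEquiv α (hRQ.le hr), conjMap_apply]
      rw [hαR r hr, hur _ (autMap_mem θ hr)]
    obtain ⟨z, hz, -, hze⟩ := exists_center_twist hTp hEs hRQ.le hR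
      (isIso_autMap hQT hα).isMap (isIso_autMap hQT hγ).isMap hagree
    have hαm : IsMap E Q (autMap α) := (isIso_autMap hQT hα).isMap
    have hzQ : z ∈ Q := hRQ.le hz
    refine ⟨(autMap α z)⁻¹, Q.inv_mem (autMap_mem α hzQ), fun x hx => ?_⟩
    have hy := huQ x hx
    have h := hze _ hy
    rw [← conjMap_apply, hcu.autMap_autEquiv α hx, conjMap_apply, conjMap_apply,
      hαm.map_conj hzQ hy] at h
    calc autMap α (u * x * u⁻¹)
        = (autMap α z)⁻¹ * (autMap α z * autMap α (u * x * u⁻¹) * (autMap α z)⁻¹) * autMap α z := by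
          group
      _ = _ := by rw [← h]; group
  -- move `Q` to a fully normalized conjugate
  have hQS := hQT.trans hTS
  obtain ⟨Q', hQQ', hQ'n⟩ := exists_isFullyNormalized F hQS
  obtain ⟨g, hg, hgi, hgm⟩ := exists_map_to_fullyNormalized hS hF hQ'n hQQ'
  have hCN : centralizerIn S R ≤ normalizerIn S Q := fun u hu => (hC u hu).1
  have hQN : Q ≤ normalizerIn S Q := le_normalizerIn_self hQS
  have hlt' : Nat.card R < Nat.card Q' := hgi.card_eq ▸ H89.card_lt_card_of_lt hRQ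
  obtain ⟨G, hG, hGe, hGU⟩ := extend_step hS hF hQ'n hbp
    (show hgi.autEquiv α ^ b = 1 by rw [← map_pow, hαb, map_one])
    (IH Q' (isCentric_target hinv hQE hgi) hQ'n hlt' _ (autEquiv_mem hinv hQT hgi hα))
    (U := imgSub g (centralizerIn S R)) fun v hv => by
      obtain ⟨u, hu, rfl⟩ := (hg.mono hCN).mem_imgSub.1 hv
      obtain ⟨huN, q, hq, hqe⟩ := hC u hu
      refine ⟨(hgm u huN).1, (hgm u huN).2, g q, hgi.mem hq, fun y hy => ?_⟩
      obtain ⟨x, hx, rfl⟩ := hgi.exists_preimage hy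
      have hx' : u * x * u⁻¹ ∈ Q := (Subgroup.mem_normalizer_iff.1 huN.2 x).1 hx
      rw [← hg.map_conj huN (hQN hx), hgi.autMap_autEquiv α hx', hgi.autMap_autEquiv α hx,
        hqe x hx, hg.map_conj (mul_mem (hQN hq) huN) (hQN (autMap_mem α hx)),
        hg.map_mul (hQN hq) huN]
  obtain ⟨g', hg', hg'e⟩ := hg.exists_inv
  have hPN : R ⊔ centralizerIn S R ≤ normalizerIn S Q := sup_le (hRQ.le.trans hQN) hCN
  have hgP : IsMap F (R ⊔ centralizerIn S R) g := hg.mono hPN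
  have hgX : ∀ x ∈ R ⊔ centralizerIn S R,
      g x ∈ imgSub g (centralizerIn S R) ⊔ (Q' ⊔ centralizerIn S Q') := fun x hx =>
    hgP.mapsTo_sup (fun r hr => Subgroup.mem_sup_right (Subgroup.mem_sup_left (hgi.mem (hRQ.le hr))))
      (fun c hc => Subgroup.mem_sup_left ((hg.mono hCN).mem_imgSub.2 ⟨c, hc, rfl⟩)) hx
  have hGR : ∀ r ∈ R, G (g r) = g (autMap θ r) := fun r hr => by
    rw [hGe _ (hgi.mem (hRQ.le hr)), hgi.autMap_autEquiv α (hRQ.le hr), hαR r hr]
  have hGC : ∀ c ∈ centralizerIn S R, ∃ q ∈ Q, G (g c) = g (c * q) := fun c hc => by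
    obtain ⟨q, hq, he⟩ := hgi.exists_preimage (hGU _ ((hg.mono hCN).mem_imgSub.2 ⟨c, hc, rfl⟩))
    refine ⟨q, hq, ?_⟩
    rw [hg.map_mul (hCN hc) (hQN hq), he, mul_inv_cancel_left]
  have hcomp : IsMap F (R ⊔ centralizerIn S R) (G ∘ g) := hgP.comp hG hgX
  have himg : ∀ x ∈ R ⊔ centralizerIn S R, (G ∘ g) x ∈ imgSub g (normalizerIn S Q) := fun x hx =>
    hcomp.mapsTo_sup
      (fun r hr => hg.mem_imgSub.2 ⟨_, hQN (hRQ.le (autMap_mem θ hr)), (hGR r hr).symm⟩)
      (fun c hc => by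
        obtain ⟨q, hq, he⟩ := hGC c hc
        exact hg.mem_imgSub.2 ⟨_, mul_mem (hCN hc) (hQN hq), he.symm⟩) hx
  have hfR : ∀ r ∈ R, (g' ∘ (G ∘ g)) r = autMap θ r := fun r hr => by
    rw [Function.comp_apply, Function.comp_apply, hGR r hr, hg'e _ (hQN (hRQ.le (autMap_mem θ hr)))]
  have hf := hcomp.comp hg' himg
  refine ⟨g' ∘ (G ∘ g), hf, hfR, fun c hc => ?_⟩
  obtain ⟨q, hq, he⟩ := hGC c hc
  have hfc : (g' ∘ (G ∘ g)) c = c * q := by
    rw [Function.comp_apply, Function.comp_apply, he, hg'e _ (mul_mem (hCN hc) (hQN hq))]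
  rw [hfc, inv_mul_cancel_left]
  have h1 : c * q ∈ centralizerIn S R := hfc ▸
    (isIso_of_sub hsub (isIso_autMap hR.1 hθ)).mem_centralizerIn_of_extends hf le_sup_left hfR
      (Subgroup.mem_sup_right hc) hc
  have h2 := (centralizerIn S R).mul_mem (Subgroup.inv_mem _ hc) h1
  rw [inv_mul_cancel_left] at h2
  exact centralizerIn_le_of_isCentric hR
    (Subgroup.mem_inf.2 ⟨hQT hq, (Subgroup.mem_inf.1 h2).2⟩)

/-- Every automorphism in the normal subsystem of a centric subgroup extends. -/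
theorem hasExt_all {R : Subgroup Ω} (hR : E.IsCentric R) (hRn : F.IsFullyNormalized R)
    {α : MulAut R} (hα : α ∈ E.autGroup R) : HasExt F R α := by
  induction hn : Nat.card T - Nat.card R using Nat.strong_induction_on generalizing R with
  | _ n ih =>
  have hcl := hE.1.2.2.2.1
  have hTS : T ≤ S := hcl.1
  haveI : Finite T := finite_of_le hTS
  have hTp : IsPGroup p T := hS.to_le hTS
  rcases hR.1.eq_or_lt with rfl | hlt
  · obtain ⟨β, hβ, hβ1, hβ2⟩ := hE.2 α hα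
    refine ⟨autMap β, (mem_autGroup_iff (sup_le hTS centralizerIn_le)).1 hβ, fun r hr => ?_,
      fun c hc => ?_⟩
    · rw [autMap_apply β (Subgroup.mem_sup_left hr), autMap_apply α hr]
      exact hβ1 ⟨r, hr⟩
    · rw [autMap_apply β (Subgroup.mem_sup_right hc)]
      exact (hβ2 ⟨c, Subgroup.mem_sup_right hc⟩ hc).1
  haveI := finite_autGroup E hR.1
  haveI := extGroup_normal hS hF hE hR.1 hRn
  obtain ⟨-, Sy, hSy⟩ := isFullyAutomized_of_isFullyNormalized hTp hE.1.1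
    (isFullyNormalized_sub hS hF hE.1.2.2.1 hcl hR.1 hRn)
  suffices h : extGroup F E hE.1.2.2.2.1.1 hR.1 = ⊤ from
    (mem_extGroup hS hF hE hR.1).1 (h ▸ Subgroup.mem_top (⟨α, hα⟩ : E.autGroup R))
  refine eq_top_of_sylow_normalizer _ Sy ?_ fun θ hθ hθp => ?_
  · intro γ hγ
    rw [hSy, Subgroup.mem_subgroupOf] at hγ
    obtain ⟨t, ht, htn, he⟩ := mem_autInducedBy.1 hγ
    show HasExt F R γ
    rw [he]
    exact hasExt_conjAut hS hF hE hR ht htn
  · refine hasExt_step hS hF hE hR hRn hlt (fun Q hQ hQn hlt' β hβ => ?_) θ.2 (m := orderOf θ) hθp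
      (by rw [← SubgroupClass.coe_pow, pow_orderOf_eq_one, Subgroup.coe_one]) fun x hx hxn => ?_
    · have := Subgroup.card_le_of_le hQ.1
      exact ih _ (by omega) hQ hQn hβ rfl
    · have hmem : (⟨conjAut hxn, conjAut_mem_autGroup E hR.1 hx⟩ : E.autGroup R) ∈
          (Sy : Subgroup (E.autGroup R)) := by
        rw [hSy]
        exact Subgroup.mem_subgroupOf.2 (mem_autInducedBy.2 ⟨x, hx.1, hxn, rfl⟩)
      have h2 := (Subgroup.mem_normalizer_iff.1 hθ _).1 hmem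
      rw [hSy, Subgroup.mem_subgroupOf] at h2
      exact h2

end Cfsg.Agent.H91.CentFocal
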