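import Cfsg.Agent.FusionSys.Centric
import Cfsg.Agent.FusionSys.KInstances
import Cfsg.Agent.H91.CentSys
import Mathlib.Data.Nat.ChineseRemainder
import Mathlib.Dynamics.PeriodicPts.Defs

/-!
Preparations for the focal subgroup of the centralizer system of a normal subsystem: powers of maps of
order prime to `p`, the maps of `C_F(Q)`, `p`-maps fixing a fully centralized subgroup, and transport of
centric subgroups and automorphism groups of an invariant subsystem.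
-/

set_option autoImplicit false
set_option linter.style.haveILetI false

namespace Cfsg.Agent.H91.CentFocal

open Cfsg Cfsg.FusionSystem Cfsg.Agent.FusionSys

variable {Ω : Type*} [Group Ω] {S T : Subgroup Ω} {F : FusionSystem S} {E : FusionSystem T}
  {p : ℕ}

theorem exists_pPrime_exponent [Fact p.Prime] {N : ℕ} (hN : 0 < N) :
    ∃ k b : ℕ, b.Coprime p ∧ N ∣ k * b ∧ ∀ m, m ∣ N → m.Coprime p → k ≡ 1 [MOD m] := by
  obtain ⟨a, b, hb, rfl⟩ := Nat.exists_eq_pow_mul_and_not_dvd hN.ne' p (Fact.out : p.Prime).ne_one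
  have hbp : b.Coprime p := ((Fact.out : p.Prime).coprime_iff_not_dvd.2 hb).symm
  obtain ⟨k, hk0, hk1⟩ := Nat.chineseRemainder (Nat.Coprime.pow_left a hbp.symm) 0 1
  refine ⟨k, b, hbp, Nat.mul_dvd_mul_right (Nat.modEq_zero_iff_dvd.1 hk0) b, fun m hm hmp => ?_⟩
  exact hk1.of_dvd ((Nat.Coprime.pow_right a hmp).dvd_of_dvd_mul_left hm)

theorem iterate_mem {X : Subgroup Ω} {f : Ω → Ω} (hm : ∀ x ∈ X, f x ∈ X) (n : ℕ) {x : Ω}
    (hx : x ∈ X) : f^[n] x ∈ X := by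
  induction n with
  | zero => exact hx
  | succ n ih => rw [Function.iterate_succ_apply']; exact hm _ ih

theorem isMap_iterate {X : Subgroup Ω} {f : Ω → Ω} (hf : IsMap F X f) (hm : ∀ x ∈ X, f x ∈ X)
    (n : ℕ) : IsMap F X f^[n] := by
  induction n with
  | zero => exact isMap_id F hf.le
  | succ n ih => rw [Function.iterate_succ']; exact ih.comp hf fun x hx => iterate_mem hm n hx

theorem autMap_pow {P : Subgroup Ω} (α : MulAut P) {g : Ω → Ω} (hg : ∀ x ∈ P, g x = autMap α x)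
    (n : ℕ) {x : Ω} (hx : x ∈ P) : g^[n] x = autMap (α ^ n) x := by
  induction n generalizing x with
  | zero => rw [pow_zero, autMap_apply _ hx]; rfl
  | succ n ih =>
    rw [pow_succ, autMap_mul _ _ hx, Function.iterate_succ_apply, hg x hx, ih (autMap_mem α hx)]

theorem autMap_one {P : Subgroup Ω} {x : Ω} (hx : x ∈ P) : autMap (1 : MulAut P) x = x := by
  rw [autMap_apply _ hx]; rfl

/-- A map trivial modulo `Q` has all its iterates trivial modulo `Q`. -/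
theorem iterate_mod {X Q : Subgroup Ω} {f : Ω → Ω} (hm : ∀ x ∈ X, f x ∈ X)
    (hq : ∀ x ∈ X, x⁻¹ * f x ∈ Q) (n : ℕ) {x : Ω} (hx : x ∈ X) : x⁻¹ * f^[n] x ∈ Q := by
  induction n with
  | zero => simp [Q.one_mem]
  | succ n ih =>
    rw [Function.iterate_succ_apply']
    convert Q.mul_mem ih (hq _ (iterate_mem hm n hx)) using 1
    group

/-- A power of a map of order prime to `p`, agreeing with it at its points of period prime to `p`. -/
theorem exists_pPrime_power [Finite S] [Fact p.Prime] {X : Subgroup Ω} {f : Ω → Ω}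
    (hf : IsMap F X f) (hm : ∀ x ∈ X, f x ∈ X) :
    ∃ k b : ℕ, b.Coprime p ∧ IsMap F X f^[k] ∧ (∀ x ∈ X, (f^[k])^[b] x = x) ∧
      ∀ x ∈ X, ∀ m : ℕ, m.Coprime p → f^[m] x = x → f^[k] x = f x := by
  haveI := finite_of_le hf.le
  haveI := finite_mulAut_of_le hf.le
  obtain ⟨α, -, hα⟩ := (isIso_of_mapsTo hf hm).exists_aut
  have hN : ∀ x ∈ X, f^[orderOf α] x = x := fun x hx => by
    rw [autMap_pow α (fun y hy => (hα y hy).symm) _ hx, pow_orderOf_eq_one, autMap_one hx]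
  obtain ⟨k, b, hb, hd, hk⟩ := exists_pPrime_exponent (p := p) (orderOf_pos α)
  refine ⟨k, b, hb, isMap_iterate hf hm k, fun x hx => ?_, fun x hx m hmp hmx => ?_⟩
  · obtain ⟨c, hc⟩ := hd
    rw [← Function.iterate_mul, hc]
    exact Function.IsPeriodicPt.mul_const (hN x hx) c
  · have hd' : Function.IsPeriodicPt f ((orderOf α).gcd m) x :=
      Function.IsPeriodicPt.gcd (hN x hx) hmx
    have hmod := hk _ (Nat.gcd_dvd_left _ m) (hmp.coprime_dvd_left (Nat.gcd_dvd_right _ m))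
    rw [← hd'.iterate_mod_apply k, show k % _ = 1 % _ from hmod, hd'.iterate_mod_apply 1]
    rfl

theorem isMap_centSys_iff {Z P : Subgroup Ω} (hZ : Z ≤ S) {f : Ω → Ω} :
    IsMap (centSys F hZ) P f ↔ P ≤ centralizerIn S Z ∧ (∀ x ∈ P, f x ∈ centralizerIn S Z) ∧
      ∃ g, IsMap F (P ⊔ Z) g ∧ (∀ x ∈ P, g x = f x) ∧ ∀ x ∈ Z, g x = x := by
  constructor
  · rintro ⟨φ, hφ, hφf⟩
    obtain ⟨h1, h2, g, hg, he, hfix⟩ := (centralizerHom_iff F).1 hφ
    exact ⟨h1, fun x hx => hφf ⟨x, hx⟩ ▸ h2 ⟨x, hx⟩, g, hg,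
      fun x hx => (he ⟨x, hx⟩).trans (hφf ⟨x, hx⟩), hfix⟩
  · rintro ⟨h1, h2, g, hg, he, hfix⟩
    obtain ⟨φ, -, hφf⟩ := (hg.mono le_sup_left).congr fun x hx => (he x hx).symm
    exact ⟨φ, (centralizerHom_iff F).2 ⟨h1, fun x => (hφf x).symm ▸ h2 x x.2, g, hg,
      fun x => (he x x.2).trans (hφf x).symm, hfix⟩, hφf⟩

/-- A `p`-map on `Q C_S(Q)` fixing a fully centralized `Q` is conjugation by an element of `C_S(Q)`. -/
theorem exists_conj_of_fix [Finite S] [Fact p.Prime] (hS : IsPGroup p S) (hF : F.IsSaturated p)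
    {Q : Subgroup Ω} (hQ : F.IsFullyCentralized Q) {γ : Ω → Ω}
    (hγ : IsMap F (Q ⊔ centralizerIn S Q) γ) (hfix : ∀ x ∈ Q, γ x = x)
    (hn : ∃ n : ℕ, ∀ c ∈ centralizerIn S Q, γ^[p ^ n] c = c) :
    ∃ w ∈ centralizerIn S Q, ∀ x ∈ Q ⊔ centralizerIn S Q, γ x = conjMap w x := by
  set C := centralizerIn S Q with hC
  haveI : Finite C := finite_of_le centralizerIn_le
  have hCp : IsPGroup p C := hS.to_le centralizerIn_le
  have hsat : (centSys F hQ.1).IsSaturated p :=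
    isSaturated_centralizer hS hF hQ (isCentralizerSystem_centSys F hQ.1)
  have hmap : ∀ c ∈ C, γ c ∈ C := fun c hc => by
    refine FusionSys.mem_centralizerIn.2 ⟨hγ.mem_S (Subgroup.mem_sup_right hc), fun y hy => ?_⟩
    conv_lhs => rw [← hfix y hy, ← hγ.map_mul (Subgroup.mem_sup_left hy) (Subgroup.mem_sup_right hc),
      (FusionSys.mem_centralizerIn.1 hc).2 y hy,
      hγ.map_mul (Subgroup.mem_sup_right hc) (Subgroup.mem_sup_left hy), hfix y hy]
  have hD : IsMap (centSys F hQ.1) C γ := (isMap_centSys_iff hQ.1).2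
    ⟨le_rfl, hmap, γ, sup_comm Q C ▸ hγ, fun _ _ => rfl, hfix⟩
  obtain ⟨r, hr, hre⟩ := (isIso_of_mapsTo hD hmap).exists_aut
  obtain ⟨n, hn⟩ := hn
  haveI := finite_autGroup (centSys F hQ.1) (le_refl C)
  obtain ⟨-, Sy, hSy⟩ :=
    isFullyAutomized_of_isFullyNormalized hCp hsat (isFullyNormalized_S (centSys F hQ.1))
  rw [← inn_eq_autInducedBy_self] at hSy
  haveI : (Sy : Subgroup ((centSys F hQ.1).autGroup C)).Normal :=
    hSy ▸ inn_subgroupOf_normal C _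
  set r' : (centSys F hQ.1).autGroup C := ⟨r, hr⟩
  have hr1 : r' ^ p ^ n = 1 := Subtype.ext (aut_ext fun x hx => by
    rw [SubgroupClass.coe_pow, ← autMap_pow r (fun y hy => (hre y hy).symm) _ hx, hn x hx,
      Subgroup.coe_one, autMap_one hx])
  have hzp : IsPGroup p (Subgroup.zpowers r') := by
    obtain ⟨i, -, hi⟩ := (Nat.dvd_prime_pow (Fact.out : p.Prime)).1 (orderOf_dvd_of_pow_eq_one hr1)
    exact IsPGroup.of_card (n := i) (by rw [Nat.card_zpowers, hi])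
  have hmem : r' ∈ (Sy : Subgroup ((centSys F hQ.1).autGroup C)) := by
    rw [← Sy.3 (hzp.to_sup_of_normal_right Sy.2) le_sup_right]
    exact Subgroup.mem_sup_left (Subgroup.mem_zpowers r')
  rw [hSy] at hmem
  obtain ⟨w, hw⟩ := hmem
  have hPS : Q ⊔ C ≤ S := hγ.le
  refine ⟨w, w.2, fun x hx => ?_⟩
  refine hγ.eqOn_sup (isMap_conj F hPS (centralizerIn_le w.2)) (fun y hy => ?_) (fun y hy => ?_) hx
  · rw [hfix y hy, conjMap_apply, ← (FusionSys.mem_centralizerIn.1 w.2).2 y hy, mul_inv_cancel_right]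
  · rw [← hre y hy, show r = MulAut.conj w from hw.symm, autMap_apply _ hy]
    rfl

/-! ### Invariant subsystems -/

theorem conj_mem_closed (hT : F.StronglyClosed T) {s t : Ω} (hs : s ∈ S) (ht : t ∈ T) :
    s * t * s⁻¹ ∈ T :=
  (stronglyClosed_iff.1 hT).2 T _ le_rfl (isMap_conj F hT.1 hs) t ht

theorem isMap_of_sub (hE : E.IsSubsystemOf F) {P : Subgroup Ω} {f : Ω → Ω} (h : IsMap E P f) :
    IsMap F P f := by
  obtain ⟨φ, hφ, hf⟩ := h
  exact ⟨φ, hE P hφ, hf⟩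

theorem isIso_of_sub (hE : E.IsSubsystemOf F) {P Q : Subgroup Ω} {f : Ω → Ω}
    (h : IsIso E P Q f) : IsIso F P Q f := ⟨isMap_of_sub hE h.isMap, h.image_eq⟩

theorem invariant_map (hE : E.IsInvariantIn F) {P : Subgroup Ω} {f : Ω → Ω}
    {a : MulAut T} (ha : a ∈ F.autGroup T) (hf : IsMap E P f) :
    ∃ χ, IsMap E (imgSub (autMap a) P) χ ∧ ∀ x ∈ P, χ (autMap a x) = autMap a (f x) := by
  have hPT := hf.le
  obtain ⟨φ, hφ, hφf⟩ := hf
  have haP : IsMap F P (autMap a) := ((mem_autGroup_iff hE.2.1.1).1 ha).mono hPT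
  obtain ⟨χ, hχ, hχe⟩ := hE.2.2.1 P hPT φ hφ a ha
  have himg : (P.subgroupOf T).map (T.subtype.comp a.toMonoidHom) = imgSub (autMap a) P := by
    ext z
    constructor
    · rintro ⟨w, hw, rfl⟩
      exact haP.mem_imgSub.2 ⟨w, hw, autMap_coe a w⟩
    · intro hz
      obtain ⟨x, hx, rfl⟩ := haP.mem_imgSub.1 hz
      exact ⟨⟨x, hPT hx⟩, hx, (autMap_apply a (hPT hx)).symm⟩
  refine ⟨homFun χ, himg ▸ isMap_of_mem hχ, fun x hx => ?_⟩
  have hmem : ((a ⟨x, hPT hx⟩ : T) : Ω) ∈ (P.subgroupOf T).map (T.subtype.comp a.toMonoidHom) :=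
    ⟨⟨x, hPT hx⟩, hx, rfl⟩
  have h := hχe ⟨x, hx⟩ ((E.le_of_mem hφ).2 _) hmem
  rw [← homFun_mem χ hmem, ← autMap_apply a (hPT hx), ← autMap_apply a ((E.le_of_mem hφ).2 _),
    hφf] at h
  exact h

theorem frattini_map (hE : E.IsInvariantIn F) {P : Subgroup Ω} {f : Ω → Ω} (hP : P ≤ T)
    (hf : IsMap F P f) :
    ∃ a ∈ F.autGroup T, ∃ g, IsMap E P g ∧ ∀ x ∈ P, f x = autMap a (g x) := by
  obtain ⟨φ, hφ, hφf⟩ := hf
  obtain ⟨a, ha, φ₀, hφ₀, he⟩ := hE.2.2.2 P hP φ hφ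
  refine ⟨a, ha, homFun φ₀, isMap_of_mem hφ₀, fun x hx => ?_⟩
  have hxT : φ₀ ⟨x, hx⟩ ∈ T := (E.le_of_mem hφ₀).2 _
  rw [homFun_mem φ₀ hx, autMap_apply a hxT, ← he ⟨x, hx⟩ hxT]
  exact (hφf ⟨x, hx⟩).symm

theorem target_le_of_closed (hT : F.StronglyClosed T) {R R' : Subgroup Ω} {g : Ω → Ω} (hR : R ≤ T)
    (hg : IsIso F R R' g) : R' ≤ T := fun y hy => by
  obtain ⟨x, hx, rfl⟩ := hg.exists_preimage hy
  exact (stronglyClosed_iff.1 hT).2 R g hR hg.isMap x hx

/-- An invariant subsystem's automorphism groups are transported by all maps of the system. -/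
theorem autEquiv_mem (hE : E.IsInvariantIn F) {R R' : Subgroup Ω} {g : Ω → Ω} (hR : R ≤ T)
    (hg : IsIso F R R' g) {α : MulAut R} (hα : α ∈ E.autGroup R) :
    hg.autEquiv α ∈ E.autGroup R' := by
  obtain ⟨a, ha, f₀, hf₀, he⟩ := frattini_map hE hR hg.isMap
  set R₀ := imgSub f₀ R
  obtain ⟨k, hk, hkl, -⟩ := hf₀.isIso.exists_symm
  have hh : IsMap E R₀ (f₀ ∘ (autMap α ∘ k)) :=
    ((hk.comp (isIso_autMap hR hα)).comp hf₀.isIso).isMap
  obtain ⟨χ, hχ, hχe⟩ := invariant_map hE ha hh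
  have haR₀ : IsMap F R₀ (autMap a) := ((mem_autGroup_iff hE.2.1.1).1 ha).mono hf₀.imgSub_le
  have himg : imgSub (autMap a) R₀ = R' := by
    ext z
    constructor
    · intro hz
      obtain ⟨w, hw, rfl⟩ := haR₀.mem_imgSub.1 hz
      obtain ⟨x, hx, rfl⟩ := hf₀.mem_imgSub.1 hw
      rw [← he x hx]
      exact hg.mem hx
    · intro hz
      obtain ⟨x, hx, rfl⟩ := hg.exists_preimage hz
      exact haR₀.mem_imgSub.2 ⟨f₀ x, hf₀.mem_imgSub.2 ⟨x, hx, rfl⟩, (he x hx).symm⟩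
  rw [himg] at hχ
  refine mem_autGroup_of_isMap (hχ.congr fun z hz => ?_)
  obtain ⟨x, hx, rfl⟩ := hg.exists_preimage hz
  rw [hg.autMap_autEquiv α hx, he x hx, hχe _ (hf₀.mem_imgSub.2 ⟨x, hx, rfl⟩), Function.comp_apply,
    Function.comp_apply, hkl x hx, ← he _ (autMap_mem α hx)]

/-- Centric subgroups of an invariant subsystem are carried to centric subgroups by all maps. -/
theorem isCentric_target (hE : E.IsInvariantIn F) {R R' : Subgroup Ω} {g : Ω → Ω}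
    (hR : E.IsCentric R) (hg : IsIso F R R' g) : E.IsCentric R' := by
  have hR'T := target_le_of_closed hE.2.1 hR.1 hg
  refine ⟨hR'T, fun Q hQ y hy => ?_⟩
  obtain ⟨h, hh⟩ := isConj_iff.1 hQ
  obtain ⟨a, ha, f₀, hf₀, he⟩ := frattini_map hE hR.1 (hg.comp (isIso_of_sub hE.1 hh)).isMap
  obtain ⟨hyT, hyc⟩ := FusionSys.mem_centralizerIn.1 hy
  have hTS : T ≤ S := hE.2.1.1
  have haT : IsIso F T T (autMap a) := isIso_autMap hTS ha
  obtain ⟨z, hz, rfl⟩ := haT.exists_preimage hyT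
  have hzc : z ∈ centralizerIn T (imgSub f₀ R) := by
    refine FusionSys.mem_centralizerIn.2 ⟨hz, fun w hw => ?_⟩
    obtain ⟨x, hx, rfl⟩ := hf₀.mem_imgSub.1 hw
    refine haT.isMap.injOn (T.mul_mem (hf₀.mem_S hx) hz) (T.mul_mem hz (hf₀.mem_S hx)) ?_
    rw [haT.isMap.map_mul (hf₀.mem_S hx) hz, haT.isMap.map_mul hz (hf₀.mem_S hx), ← he x hx]
    exact hyc _ (hh.mem (hg.mem hx))
  obtain ⟨x, hx, rfl⟩ := hf₀.mem_imgSub.1 (hR.2 _ hf₀.isIso.isConj hzc)
  rw [← he x hx]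
  exact hh.mem (hg.mem hx)

/-- Fully normalized subgroups of the system are fully normalized in a subsystem on a strongly closed
subgroup. -/
theorem isFullyNormalized_sub [Finite S] [Fact p.Prime] (hS : IsPGroup p S) (hF : F.IsSaturated p)
    (hE : E.IsSubsystemOf F) (hT : F.StronglyClosed T) {R : Subgroup Ω} (hRT : R ≤ T)
    (hR : F.IsFullyNormalized R) : E.IsFullyNormalized R := by
  refine ⟨hRT, fun Q hQ => ?_⟩
  obtain ⟨f, hf⟩ := isConj_iff.1 hQ
  have hQT : Q ≤ T := hf.target_le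
  obtain ⟨g, hg, hgi, hgm⟩ :=
    exists_map_to_fullyNormalized hS hF hR (isConj_symm (isIso_of_sub hE hf).isConj)
  have hTS : T ≤ S := hT.1
  have hle : normalizerIn T Q ≤ normalizerIn S Q := fun x hx => ⟨hTS hx.1, hx.2⟩
  haveI : Finite (normalizerIn T R) := finite_of_le (S := S) (inf_le_left.trans hTS)
  have hm : ∀ x : normalizerIn T Q, g x ∈ normalizerIn T R := fun x =>
    ⟨(stronglyClosed_iff.1 hT).2 _ g inf_le_left (hg.mono hle) x x.2, (hgm x (hle x.2)).2⟩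
  exact Nat.card_le_card_of_injective (fun x => (⟨g x, hm x⟩ : normalizerIn T R))
    fun a b hab => Subtype.ext (hg.injOn (hle a.2) (hle b.2) (congrArg Subtype.val hab))

end Cfsg.Agent.H91.CentFocal
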